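import Groth.Agent.GIT.K98.FamBun
import Groth.Agent.Pi1.H382.Trait
import Groth.Agent.Flat2B.SmoothGeom
import Groth.Agent.S5258
import Groth.Agent.S2821
import Groth.Agent.S1535

/-!
# Geometry of a smooth connected `G`-scheme, `G` reductive over a field
-/

set_option autoImplicit false

universe u

open CategoryTheory CategoryTheory.Limits MonoidalCategory CartesianMonoidalCategory MonObj GrpObj AlgebraicGeometry
  TopologicalSpace Opposite

namespace K98.SmGeom

theorem coheight_generic {X : Scheme.{u}} [IsIntegral X] : Order.coheight (genericPoint X) = 0 := by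
  rw [Order.coheight_eq_zero]
  intro y _
  exact genericPoint_specializes y

/-- generic points go to generic points under flat morphisms -/
theorem map_gen_of_flat {X Z : Scheme.{u}} [IsIntegral X] [IsIntegral Z] (f : Z ⟶ X) [Flat f] :
    f (genericPoint Z) = genericPoint X := by
  apply K569.OrdSmooth.eq_genericPoint_of_coheight
  have h1 := Groth.Agent.Sga5.H839.DimLim.coheight_apply_le f (Flat.generalizingMap f) (genericPoint Z)
  rw [coheight_generic] at h1
  exact le_antisymm h1 bot_le

section Field

variable {k : Type u} [Field k] {X : Scheme.{u}} (f : X ⟶ Spec (CommRingCat.of k))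

theorem ufd_stalk [Smooth f] (x : X) : UniqueFactorizationMonoid (X.presheaf.stalk x) := by
  let _ : X.Over (Spec (CommRingCat.of k)) := ⟨f⟩
  have : Smooth (X ↘ (Spec (CommRingCat.of k))) := inferInstanceAs (Smooth f)
  have := Groth.Agent.S1535.result k X x
  exact (Groth.Agent.S2821.result (X.presheaf.stalk x)).2

theorem normal_stalk [Smooth f] [IsIntegral X] (x : X) : IsIntegrallyClosed (X.presheaf.stalk x) := by
  have := ufd_stalk f x
  infer_instance

theorem isIntegral [Smooth f] [ConnectedSpace X] : IsIntegral X :=
  Groth.Agent.Pi1.H382.Trait.isIntegral_of_smooth f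

theorem isLocallyNoetherian [LocallyOfFiniteType f] : IsLocallyNoetherian X :=
  LocallyOfFiniteType.isLocallyNoetherian f

theorem isSeparated [IsSeparated f] : X.IsSeparated := by
  refine ⟨?_⟩
  rw [← terminal.comp_from f]
  infer_instance

theorem compactSpace [QuasiCompact f] : CompactSpace X :=
  QuasiCompact.compactSpace_of_compactSpace f

end Field

variable {k : Type u} [Field k] {G : Over (Spec (CommRingCat.of k))} [GrpObj G]

theorem geometricallyIntegral (hG : Red.IsReductive G) : GeometricallyIntegral G.hom := by
  have : Smooth G.hom := hG.2.1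
  have := Groth.Agent.S5258.geometricallyIrreducible G.hom (fun s => (hG.2.2 s).2.2.1)
  exact Groth.Agent.Flat2B.SmoothGeom.geometricallyIntegral_of_smooth G.hom

theorem isIntegral_tensor (hG : Red.IsReductive G) (X : Over (Spec (CommRingCat.of k))) [IsIntegral X.left]
    [IsLocallyNoetherian X.left] : IsIntegral (G ⊗ X).left := by
  have : Smooth G.hom := hG.2.1
  have := geometricallyIntegral hG
  change IsIntegral (pullback G.hom X.hom)
  infer_instance

theorem smooth_tensor (hG : Red.IsReductive G) (X : Over (Spec (CommRingCat.of k))) [Smooth X.hom] :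
    Smooth (G ⊗ X).hom := by
  have : Smooth G.hom := hG.2.1
  have h1 : (G ⊗ X).hom = (snd G X).left ≫ X.hom := (Over.w (snd G X)).symm
  have := InvBun.smooth_snd (G := G) X
  rw [h1]
  infer_instance

end K98.SmGeom
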