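import Groth.Agent.GIT.K689.LineBun
import Groth.Agent.Ega2.QCohLocal
import Groth.Agent.Lefpen.H521.CartierCoc

/-!
# The line bundle of a Cartier cocycle and its rational sections as weight-one functions
-/

set_option autoImplicit false

universe u

open CategoryTheory CategoryTheory.Limits AlgebraicGeometry TopologicalSpace Opposite

namespace K98.CocBun

open K689.SchGlue K689.Coord K689.CoordUP K689.Weight K689.LineBun K689.LinBunBasic
open Groth.Agent.Fdesc.LocGen Groth.Agent.Vancyc.H545.Taut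
open Groth.Agent.CohqB.AlgSys Groth.Agent.CohqB.AlgSym Groth.Agent.Ega2.H280.RelSpecAlg
open Groth.Agent.Lefpen.H725.CocDef Groth.Agent.Lefpen.H521.CartierCoc

variable {X : Scheme.{u}} [IsIntegral X]

theorem regAt_mul {x : X} {u v : X.functionField} (h : RegAt x u) (h' : RegAt x v) : RegAt x (u * v) := by
  obtain ⟨U, hx, hη, g, rfl⟩ := h
  obtain ⟨U', hx', hη', g', rfl⟩ := h'
  refine ⟨U ⊓ U', ⟨hx, hx'⟩, ⟨hη, hη'⟩, ores inf_le_left g * ores inf_le_right g', ?_⟩
  rw [map_mul, ff_ores, ff_ores]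

/-- regularity of `r / a x` spreads to the domain of a generator -/
theorem regAt_of_unit {y : X} {r u v : X.functionField} (hu : u ≠ 0) (hv : v ≠ 0) (h : UnitAt y (u / v))
    (hr : RegAt y (r / v)) : RegAt y (r / u) := by
  have h1 := regAt_mul hr (unitAt_regAt (unitAt_inv h))
  have h2 : r / v * (u / v)⁻¹ = r / u := by field_simp
  rwa [h2] at h1

theorem exists_bun (a : X → X.functionField) (h0 : ∀ x, a x ≠ 0)
    (hloc : ∀ x, ∃ U : X.Opens, x ∈ U ∧ ∀ y ∈ U, UnitAt y (a x / a y)) :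
    ∃ (V : Scheme.{u}) (p : V ⟶ X) (chart : ∀ U : X.Opens, Set (Γ(V, p ⁻¹ᵁ U))), IsAffineHom p ∧ Atl p chart ∧
      ∃ Fn : ∀ r : X.functionField, (∀ x, RegAt x (r / a x)) → Γ(V, ⊤),
        (∀ r hr, Wt p chart 1 ⊤ (tt p (Fn r hr))) ∧
        ∀ (U : X.Opens) (hη : genericPoint X ∈ U) (y : Γ(V, p ⁻¹ᵁ U)), y ∈ chart U →
          ∃ α : X.functionField, α ≠ 0 ∧ (∀ x ∈ U, UnitAt x (α / a x)) ∧
            ∀ r hr (t : Γ(X, U)), rs p (le_top : U ≤ ⊤) (tt p (Fn r hr)) = p.app U t * y → ff U hη t * α = r := by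
  obtain ⟨L, hL, hc⟩ := exists_of_loc a h0 hloc
  obtain ⟨-, U, hxU, e, he, hg⟩ := hc
  choose g hgη hge hga using hg
  have hM : Coh.IsQCoh L := Groth.Agent.Ega2.QCohLocal.isQCoh_of_isInvertible hL
  have hgu : ∀ x y, IsUnit (g x y) := fun x y => isUnit_of_gen (he x) (he y) (hge x y)
  have hau : ∀ x y, ∀ z ∈ U x ⊓ U y, UnitAt z (a x / a y) := by
    intro x y z hz
    refine ⟨U x ⊓ U y, hz, hgη x y, g x y, hgu x y, ?_⟩
    rw [hga x y, mul_div_assoc, div_self (h0 y), mul_one]
  have hreg : ∀ (r : X.functionField), (∀ x, RegAt x (r / a x)) → ∀ x, ∀ y ∈ U x, RegAt y (r / a x) := by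
    intro r hr x y hy
    exact regAt_of_unit (h0 x) (h0 y) (hau x y y ⟨hy, hxU y⟩) (hr y)
  have hη : ∀ x, genericPoint X ∈ U x := fun x => gen_mem (hxU x)
  have hsec : ∀ (r : X.functionField) (_ : ∀ x, RegAt x (r / a x)) (x : X), ∃ b : Γ(X, U x), ff (U x) (hη x) b = r / a x :=
    fun r hr x => exists_of_regAt (hη x) (fun z hz => hreg r hr x z hz)
  have A := atlM hM hL
  -- the functions
  have hfn : ∀ (r : X.functionField) (_ : ∀ x, RegAt x (r / a x)), ∃ F : Γ(V hM, ⊤), ∀ x, ∃ b : Γ(X, U x),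
      ff (U x) (hη x) b = r / a x ∧ rs (toX hM) le_top (tt (toX hM) F) = (toX hM).app (U x) b * yy hM (e x) := by
    intro r hr
    choose b hb using hsec r hr
    have hcov : (⊤ : (V hM).Opens) ≤ ⨆ j, toX hM ⁻¹ᵁ (U j) := by
      intro x _
      exact Opens.mem_iSup.2 ⟨toX hM x, hxU _⟩
    let s : ∀ j, Γ(V hM, toX hM ⁻¹ᵁ (U j)) := fun j => (toX hM).app (U j) (b j) * yy hM (e j)
    have hs : ∀ i j, ores (inf_le_left : toX hM ⁻¹ᵁ (U i) ⊓ toX hM ⁻¹ᵁ (U j) ≤ toX hM ⁻¹ᵁ (U i)) (s i) =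
        ores inf_le_right (s j) := by
      intro i j
      have h1 : rs (toX hM) (inf_le_left : U i ⊓ U j ≤ U i) (s i) =
          rs (toX hM) (inf_le_right : U i ⊓ U j ≤ U j) (s j) := by
        have k1 : rs (toX hM) (inf_le_left : U i ⊓ U j ≤ U i) (s i) =
            (toX hM).app (U i ⊓ U j) (rsec inf_le_left (b i) * g i j) * yy hM (res L inf_le_right (e j)) := by
          simp only [s]
          rw [rs_mul, rs_app, rs_yy, hge i j, yy_smul, map_mul]
          ring
        have k2 : rs (toX hM) (inf_le_right : U i ⊓ U j ≤ U j) (s j) =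
            (toX hM).app (U i ⊓ U j) (rsec inf_le_right (b j)) * yy hM (res L inf_le_right (e j)) := by
          simp only [s]
          rw [rs_mul, rs_app, rs_yy]
        rw [k1, k2]
        congr 2
        apply ff_injective (U i ⊓ U j) (hgη i j)
        have k3 : ff (U i ⊓ U j) (hgη i j) (rsec inf_le_left (b i)) = r / a i :=
          (ff_ores inf_le_left (hgη i j) (b i)).trans (hb i)
        have k4 : ff (U i ⊓ U j) (hgη i j) (rsec inf_le_right (b j)) = r / a j :=
          (ff_ores inf_le_right (hgη i j) (b j)).trans (hb j)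
        rw [map_mul, k3, k4, hga i j]
        have := h0 j
        have h5 : ff (U i ⊓ U j) (hgη i j) (g i j) ≠ 0 := by
          intro h
          apply h0 i
          rw [hga i j, h, zero_mul]
        field_simp
      exact h1
    obtain ⟨F, hF⟩ := ores_glue (X := V hM) (V := ⊤) (fun j => toX hM ⁻¹ᵁ (U j)) (fun _ => le_top) hcov s hs
    refine ⟨F, fun x => ⟨b x, hb x, ?_⟩⟩
    rw [rs_tt]
    exact hF x
  choose Fn hFn using hfn
  refine ⟨V hM, toX hM, chartM hM, isAffineHom_toX hM, A, Fn, ?_, ?_⟩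
  · intro r hr
    have : IsAffineHom (toX hM) := isAffineHom_toX hM
    apply Wt.of_local A
    intro x _
    obtain ⟨b, -, hb⟩ := hFn r hr x
    refine ⟨U x, le_top, hxU x, ?_⟩
    rw [hb, ← pow_one (yy hM (e x))]
    exact Wt.of_adm A (adm_of_mem ⟨e x, he x, rfl⟩) _
  · rintro W hηW y ⟨e', he', rfl⟩
    have hlink : ∀ x, ∃ c : Γ(X, W ⊓ U x), IsUnit c ∧ res L inf_le_left e' = c • res L inf_le_right (e x) := by
      intro x
      exact ((he x).res (inf_le_right : W ⊓ U x ≤ U x)).exists_unit (he'.res (inf_le_left : W ⊓ U x ≤ W))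
    choose c hc hce using hlink
    have hηx : ∀ x, genericPoint X ∈ W ⊓ U x := fun x => ⟨hηW, hη x⟩
    -- the value of a coefficient
    have hval : ∀ r hr (t : Γ(X, W)), rs (toX hM) (le_top : W ≤ ⊤) (tt (toX hM) (Fn r hr)) =
        (toX hM).app W t * yy hM e' → ∀ x, ff W hηW t * (ff (W ⊓ U x) (hηx x) (c x) * a x) = r := by
      intro r hr t ht x
      obtain ⟨b, hb, hbF⟩ := hFn r hr x
      have k1 := congrArg (rs (toX hM) (inf_le_left : W ⊓ U x ≤ W)) ht
      have k2 := congrArg (rs (toX hM) (inf_le_right : W ⊓ U x ≤ U x)) hbF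
      rw [rs_rs, rs_mul, rs_app, rs_yy, hce x, yy_smul] at k1
      rw [rs_rs, rs_mul, rs_app, rs_yy] at k2
      rw [k2] at k1
      have : IsAffineHom (toX hM) := isAffineHom_toX hM
      have k3 : (toX hM).app (W ⊓ U x) (rsec inf_le_right b) * (yy hM (res L inf_le_right (e x))) ^ 1 =
          (toX hM).app (W ⊓ U x) (rsec inf_le_left t * c x) * (yy hM (res L inf_le_right (e x))) ^ 1 := by
        rw [pow_one, k1, map_mul]
        ring
      have k4 := IsCoord.mul_pow_injective (isCoord_yy hM ((he x).res (inf_le_right : W ⊓ U x ≤ U x))) 1 k3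
      have k5 : ff (W ⊓ U x) (hηx x) (rsec inf_le_right b) = r / a x :=
        (ff_ores inf_le_right (hηx x) b).trans hb
      have k6 : ff (W ⊓ U x) (hηx x) (rsec inf_le_left t) = ff W hηW t :=
        ff_ores inf_le_left (hηx x) t
      rw [k4, map_mul, k6] at k5
      rw [← mul_assoc, k5, div_mul_cancel₀ _ (h0 x)]
    have hne : ∀ x, ff (W ⊓ U x) (hηx x) (c x) ≠ 0 := fun x =>
      ((hc x).map (ff (W ⊓ U x) (hηx x))).ne_zero
    -- the two descriptions of the constant agree
    have hα : ∀ x y, ff (W ⊓ U x) (hηx x) (c x) * a x = ff (W ⊓ U y) (hηx y) (c y) * a y := by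
      intro x y
      have hle : W ⊓ (U x ⊓ U y) ≤ U x ⊓ U y := inf_le_right
      have hlx : W ⊓ (U x ⊓ U y) ≤ W ⊓ U x := inf_le_inf le_rfl inf_le_left
      have hly : W ⊓ (U x ⊓ U y) ≤ W ⊓ U y := inf_le_inf le_rfl inf_le_right
      have hηxy : genericPoint X ∈ W ⊓ (U x ⊓ U y) := ⟨hηW, hgη x y⟩
      have e1 := congrArg (res L hlx) (hce x)
      have e2 := congrArg (res L hly) (hce y)
      have e3 := congrArg (res L hle) (hge x y)
      rw [res_smul, res_res, res_res] at e1 e2 e3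
      have e4 : (ores hlx (c x) * ores hle (g x y)) • res L (hle.trans inf_le_right) (e y) =
          ores hly (c y) • res L (hly.trans inf_le_right) (e y) := by
        rw [← e2, mul_smul, ← e3]
        exact e1.symm
      have e5 := ((he y).res (hle.trans inf_le_right)).ext e4
      have e6 := congrArg (ff _ hηxy) e5
      rw [map_mul, ff_ores, ff_ores, ff_ores] at e6
      rw [hga x y, ← mul_assoc, e6]
    refine ⟨ff (W ⊓ U (genericPoint X)) (hηx _) (c _) * a (genericPoint X), mul_ne_zero (hne _) (h0 _), ?_, ?_⟩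
    · intro x hx
      rw [hα (genericPoint X) x, mul_div_assoc, div_self (h0 x), mul_one]
      exact ⟨W ⊓ U x, ⟨hx, hxU x⟩, hηx x, c x, hc x, rfl⟩
    · intro r hr t ht
      exact hval r hr t ht _

end K98.CocBun
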