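import Groth.Agent.GIT.K98.SmGeom
import Groth.Agent.GIT.K960.InvFam
import Groth.Agent.GIT.K689.Quot714
import Groth.Agent.S11441

/-!
# A quasi-projective affine geometric quotient of an invariant open comes from a linearised line bundle
-/

set_option autoImplicit false

universe u

open CategoryTheory CategoryTheory.Limits MonoidalCategory CartesianMonoidalCategory MonObj GrpObj AlgebraicGeometry
  TopologicalSpace Opposite

namespace K98.Converse

open K98.SmGeom

theorem exists_linBun (k : Type u) [Field k]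
    (G X : Over (Spec (CommRingCat.of k))) [GrpObj G] (hG : Red.IsReductive G)
    [LocallyOfFiniteType X.hom] [QuasiCompact X.hom] [Smooth X.hom] [IsSeparated X.hom] [ConnectedSpace X.left]
    (a : AlgGrp.Action G X)
    (U : X.left.Opens) (hinv : a.act.left ⁻¹ᵁ U = (snd G X).left ⁻¹ᵁ U)
    (aU : AlgGrp.Action G (Over.mk (U.ι ≫ X.hom)))
    (jU : Over.mk (U.ι ≫ X.hom) ⟶ X) (hjU : jU.left = U.ι) (haU : aU.act ≫ jU = (G ◁ jU) ≫ a.act)
    (Y : Over (Spec (CommRingCat.of k))) (φ : Over.mk (U.ι ≫ X.hom) ⟶ Y) (hq : GIT.IsGeomQuot aU φ)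
    (haff : IsAffineHom φ.left) (M : Y.left.Modules) (hM : CohB1.IsAmple M) :
    ∃ B : GLinSh.LinBun G a, (U : Set X.left) ⊆ B.sLocus := by
  have hGs : Smooth G.hom := hG.2.1
  have := isIntegral X.hom
  have := isLocallyNoetherian X.hom
  have := compactSpace X.hom
  have := isSeparated X.hom
  have := isIntegral_tensor hG X
  have := smooth_tensor hG X
  have := isLocallyNoetherian (G ⊗ X).hom
  have hX : ∀ x : X.left, IsIntegrallyClosed (X.left.presheaf.stalk x) := normal_stalk X.hom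
  have hufd : ∀ x : X.left, UniqueFactorizationMonoid (X.left.presheaf.stalk x) := ufd_stalk X.hom
  have hZ : ∀ z : (G ⊗ X).left, IsIntegrallyClosed ((G ⊗ X).left.presheaf.stalk z) := normal_stalk (G ⊗ X).hom
  have := InvBun.smooth_snd (G := G) X
  have := InvBun.smooth_act a
  have hσ : a.act.left (genericPoint (G ⊗ X).left) = genericPoint X.left := map_gen_of_flat a.act.left
  have hp : (snd G X).left (genericPoint (G ⊗ X).left) = genericPoint X.left := map_gen_of_flat (snd G X).left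
  rcases (U : Set X.left).eq_empty_or_nonempty with hU | ⟨x0, hx0⟩
  · obtain ⟨B, -⟩ := InvBun.exists_linBun a hX hZ hσ hp (fun _ => 0) (fun _ _ => rfl) (fun _ => le_rfl)
      (fun _ => 1) (fun _ => one_ne_zero) (fun x => ⟨⊤, trivial, fun z _ _ => K654.OrdAff.ord_one z⟩) (fun _ _ => rfl)
    exact ⟨B, by rw [hU]; exact Set.empty_subset _⟩
  · have hUη : genericPoint X.left ∈ U := Groth.Agent.Lefpen.H521.CartierCoc.gen_mem hx0
    obtain ⟨N, m, O, g, b, hO, hcov, hOinv, hg, hb, hbinv, hbaff, hbcov⟩ :=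
      K960.InvFam.exists_invFam a U hinv aU jU hjU haU φ hq.inv hM
    obtain ⟨B, hB⟩ := FamBun.exists_linBun a hX hufd hZ hσ hp U hUη O g b hO hcov hOinv hg hb hbinv hbaff hbcov
    refine ⟨B, fun x hx => ?_⟩
    obtain ⟨t, ht⟩ := hbcov x hx
    obtain ⟨F, hF, hnv⟩ := hB t ⟨x, ht⟩
    refine ⟨1, F, le_rfl, hF, by rw [hnv]; exact ht, (⨆ i, X.left.basicOpen (b t i)), hnv.symm, hbaff t, ?_⟩
    have hcl := Groth.Agent.S11441.result _ G _ Y aU φ hq
    have : IsOpenImmersion jU.left := by rw [hjU]; infer_instance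
    refine K689.Quot714.closedOrbitsOn_of_isClosedAction jU haU _ ?_ hcl
    intro z hz
    obtain ⟨i, hi⟩ := Opens.mem_iSup.1 (show z ∈ ⨆ i, X.left.basicOpen (b t i) from hz)
    have hzU : z ∈ U := hO i (X.left.basicOpen_le _ hi)
    rw [hjU]
    exact ⟨⟨z, hzU⟩, rfl⟩

end K98.Converse
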