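import Groth.Agent.GIT.K98.InvBun
import Groth.Agent.GIT.K413.AffCodim
import Groth.Agent.Div21.K172.LocFact
import Groth.Agent.Flat2H.FamExt

/-!
# A linearised line bundle from invariant families on an invariant open
-/

set_option autoImplicit false

universe u

open CategoryTheory CategoryTheory.Limits MonoidalCategory CartesianMonoidalCategory MonObj GrpObj AlgebraicGeometry
  TopologicalSpace Opposite

namespace K98.FamBun

open K98.OrdPull K98.CocBun K98.InvBun
open Groth.Agent.Lefpen.H725.CocDef Groth.Agent.Lefpen.H521.CartierCoc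
open Groth.Agent.Fdesc.LocGen

section Ord

variable {X : Scheme.{u}} [IsIntegral X] {N : ℕ} (O : Fin N → X.Opens)

open Classical in
/-- the rational function of a section -/
noncomputable def rat {U : X.Opens} (s : Γ(X, U)) : X.functionField :=
  if h : genericPoint X ∈ U then ff U h s else 1

theorem rat_eq {U : X.Opens} (h : genericPoint X ∈ U) (s : Γ(X, U)) : rat s = ff U h s := dif_pos h

variable {O} {m : ℕ} {g : ∀ i j, Γ(X, O i ⊓ O j)}

theorem rat_fam {b : ∀ i, Γ(X, O i)} (hb : Groth.Agent.Flat2H.FamExt.IsFam O g b) {i j : Fin N}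
    (hi : genericPoint X ∈ O i) (hj : genericPoint X ∈ O j) :
    rat (b j) = rat (b i) * ff (O i ⊓ O j) ⟨hi, hj⟩ (g i j) := by
  rw [rat_eq hi, rat_eq hj]
  have := congrArg (ff (O i ⊓ O j) ⟨hi, hj⟩) (hb i j)
  rw [map_mul, ff_ores, ff_ores] at this
  exact this.symm

variable [IsLocallyNoetherian X]

/-- the multiplicity at `x` of a family, and `K` outside -/
noncomputable def mult (b : ∀ i, Γ(X, O i)) (K : ℤ) (x : X) : ℤ := by
  classical
  exact if Order.coheight x = 1 then (if h : ∃ i, x ∈ O i then Scheme.ord (rat (b h.choose)) x else K) else 0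

theorem mult_of_ne {b : ∀ i, Γ(X, O i)} {K : ℤ} {x : X} (hx : Order.coheight x ≠ 1) : mult b K x = 0 := by
  classical
  exact if_neg hx

theorem mult_of_notMem {b : ∀ i, Γ(X, O i)} {K : ℤ} {x : X} (hx : Order.coheight x = 1) (h : ∀ i, x ∉ O i) :
    mult b K x = K := by
  classical
  have h1 : ¬ ∃ i, x ∈ O i := by
    rintro ⟨i, hi⟩
    exact h i hi
  refine (if_pos hx).trans (dif_neg h1)

omit [IsLocallyNoetherian X] in
theorem rat_ne_zero {b : ∀ i, Γ(X, O i)} (hg : ∀ i j, IsUnit (g i j))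
    (hb : Groth.Agent.Flat2H.FamExt.IsFam O g b) {i j : Fin N}
    (hi : genericPoint X ∈ O i) (hj : genericPoint X ∈ O j) (h : rat (b i) ≠ 0) : rat (b j) ≠ 0 := by
  rw [rat_fam hb hi hj]
  exact mul_ne_zero h ((hg i j).map (ff (O i ⊓ O j) ⟨hi, hj⟩)).ne_zero

theorem ord_fam {b : ∀ i, Γ(X, O i)} (hg : ∀ i j, IsUnit (g i j))
    (hb : Groth.Agent.Flat2H.FamExt.IsFam O g b) {i j : Fin N} {x : X} (hi : x ∈ O i) (hj : x ∈ O j)
    (h : rat (b i) ≠ 0) : Scheme.ord (rat (b j)) x = Scheme.ord (rat (b i)) x := by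
  have hi' := gen_mem hi
  have hj' := gen_mem hj
  have h1 : UnitAt x (ff (O i ⊓ O j) ⟨hi', hj'⟩ (g i j)) := ⟨O i ⊓ O j, ⟨hi, hj⟩, ⟨hi', hj'⟩, g i j, hg i j, rfl⟩
  rw [rat_fam hb hi' hj', Scheme.ord_mul h (unitAt_ne_zero h1), K172.CocOrd.ord_of_unitAt h1, add_zero]

theorem mult_of_mem {b : ∀ i, Γ(X, O i)} (hg : ∀ i j, IsUnit (g i j))
    (hb : Groth.Agent.Flat2H.FamExt.IsFam O g b) {K : ℤ} {i : Fin N} {x : X} (hi : x ∈ O i) (h : rat (b i) ≠ 0) :
    mult b K x = Scheme.ord (rat (b i)) x := by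
  classical
  by_cases hx : Order.coheight x = 1
  · have h1 : ∃ i, x ∈ O i := ⟨i, hi⟩
    have e : mult b K x = Scheme.ord (rat (b h1.choose)) x := (if_pos hx).trans (dif_pos h1)
    rw [e]
    exact ord_fam hg hb hi h1.choose_spec h
  · rw [mult_of_ne hx, Scheme.ord_eq_zero_of_coheight_neq_one hx]

theorem ord_rat_nonneg {U : X.Opens} (s : Γ(X, U)) {x : X} (hx : x ∈ U) : 0 ≤ Scheme.ord (rat s) x := by
  rw [rat_eq (gen_mem hx)]
  exact ord_ff_nonneg _ s hx

theorem ord_rat_of_mem {U : X.Opens} (s : Γ(X, U)) {x : X} (hx : x ∈ X.basicOpen s) : Scheme.ord (rat s) x = 0 := by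
  have hxU := X.basicOpen_le s hx
  have hu : IsUnit (X.presheaf.germ U x hxU s) := (X.mem_basicOpen s x hxU).1 hx
  have e : algebraMap (X.presheaf.stalk x) X.functionField (X.presheaf.germ U x hxU s) = ff U (gen_mem hxU) s :=
    congrArg (fun φ => φ.hom s) (TopCat.Presheaf.germ_stalkSpecializes X.presheaf hxU (genericPoint_specializes x))
  rw [rat_eq (gen_mem hxU), ← e]
  exact K654.OrdAff.ord_algebraMap_unit x _ hu

end Ord

variable {S : Scheme.{u}} {G X : Over S} [GrpObj G] (a : AlgGrp.Action G X)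
variable [IsIntegral X.left] [IsIntegral (G ⊗ X).left] [IsLocallyNoetherian X.left]
  [IsLocallyNoetherian (G ⊗ X).left] [Smooth G.hom] [CompactSpace X.left] [X.left.IsSeparated]

theorem exists_linBun (hX : ∀ x : X.left, IsIntegrallyClosed (X.left.presheaf.stalk x))
    (hufd : ∀ x : X.left, UniqueFactorizationMonoid (X.left.presheaf.stalk x))
    (hZ : ∀ z : (G ⊗ X).left, IsIntegrallyClosed ((G ⊗ X).left.presheaf.stalk z))
    (hσ : a.act.left (genericPoint (G ⊗ X).left) = genericPoint X.left)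
    (hp : (snd G X).left (genericPoint (G ⊗ X).left) = genericPoint X.left)
    (U : X.left.Opens) (hUη : genericPoint X.left ∈ U)
    {N m : ℕ} (O : Fin N → X.left.Opens) (g : ∀ i j, Γ(X.left, O i ⊓ O j))
    (b : Fin m → ∀ i, Γ(X.left, O i))
    (hO : ∀ i, O i ≤ U) (hcov : ∀ x ∈ U, ∃ i, x ∈ O i)
    (hOinv : ∀ i, a.act.left ⁻¹ᵁ (O i) = (snd G X).left ⁻¹ᵁ (O i))
    (hg : ∀ i j, IsUnit (g i j)) (hb : ∀ t, Groth.Agent.Flat2H.FamExt.IsFam O g (b t))
    (hbinv : ∀ t i, a.act.left.appLE (O i) (a.act.left ⁻¹ᵁ (O i) ⊓ (snd G X).left ⁻¹ᵁ (O i)) inf_le_left (b t i) =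
        (snd G X).left.appLE (O i) (a.act.left ⁻¹ᵁ (O i) ⊓ (snd G X).left ⁻¹ᵁ (O i)) inf_le_right (b t i))
    (haff : ∀ t, IsAffineOpen (⨆ i, X.left.basicOpen (b t i)))
    (hbcov : ∀ x ∈ U, ∃ t, x ∈ ⨆ i, X.left.basicOpen (b t i)) :
    ∃ B : GLinSh.LinBun G a, ∀ t, (((⨆ i, X.left.basicOpen (b t i) : X.left.Opens) : Set X.left)).Nonempty →
      ∃ F : Γ(B.V.left, ⊤), B.IsInvSection 1 F ∧
        GLinSh.nonvanishing B.π F = (⨆ i, X.left.basicOpen (b t i) : X.left.Opens) := by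
  have hsm1 := smooth_snd (G := G) X
  have hsm2 := smooth_act a
  -- the base family
  obtain ⟨t0, ht0⟩ := hbcov _ hUη
  obtain ⟨i0, hi0⟩ := Opens.mem_iSup.1 ht0
  have hηi0 : genericPoint X.left ∈ O i0 := X.left.basicOpen_le _ hi0
  have hne0 : rat (b t0 i0) ≠ 0 := by
    rw [rat_eq hηi0]
    have hu : IsUnit (X.left.presheaf.germ (O i0) _ hηi0 (b t0 i0)) := (X.left.mem_basicOpen _ _ hηi0).1 hi0
    exact hu.ne_zero
  have hne : ∀ i, genericPoint X.left ∈ O i → rat (b t0 i) ≠ 0 := fun i hi =>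
    rat_ne_zero hg (hb t0) hηi0 hi hne0
  let r : Fin m → X.left.functionField := fun t => rat (b t i0) / rat (b t0 i0)
  have hr : ∀ t i, genericPoint X.left ∈ O i → rat (b t i) = r t * rat (b t0 i) := by
    intro t i hi
    rw [rat_fam (hb t) hηi0 hi, rat_fam (hb t0) hηi0 hi]
    simp only [r]
    field_simp
  -- the constant
  have hfin := Groth.Agent.Ega4late.H535.PicPrincipal.finite_coheight_one U hUη
  let K : ℤ := 1 + ∑ t, ∑ x ∈ hfin.toFinset, |Scheme.ord (r t) x|
  have hK : ∀ t x, Order.coheight x = 1 → x ∉ U → 0 < Scheme.ord (r t) x + K := by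
    intro t x hx hxU
    have h1 : |Scheme.ord (r t) x| ≤ ∑ x ∈ hfin.toFinset, |Scheme.ord (r t) x| :=
      Finset.single_le_sum (f := fun x => |Scheme.ord (r t) x|) (fun _ _ => abs_nonneg _)
        (hfin.mem_toFinset.2 ⟨hx, hxU⟩)
    have h2 : ∑ x ∈ hfin.toFinset, |Scheme.ord (r t) x| ≤ ∑ t, ∑ x ∈ hfin.toFinset, |Scheme.ord (r t) x| :=
      Finset.single_le_sum (f := fun t => ∑ x ∈ hfin.toFinset, |Scheme.ord (r t) x|)
        (fun _ _ => Finset.sum_nonneg fun _ _ => abs_nonneg _) (Finset.mem_univ t)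
    have h3 := neg_abs_le (Scheme.ord (r t) x)
    simp only [K]
    omega
  have hK0 : 0 ≤ K := by
    have : 0 ≤ ∑ t, ∑ x ∈ hfin.toFinset, |Scheme.ord (r t) x| :=
      Finset.sum_nonneg fun _ _ => Finset.sum_nonneg fun _ _ => abs_nonneg _
    simp only [K]
    omega
  let mu : X.left → ℤ := mult (b t0) K
  have hmem : ∀ i x, x ∈ O i → mu x = Scheme.ord (rat (b t0 i)) x := fun i x hx =>
    mult_of_mem hg (hb t0) hx (hne i (gen_mem hx))
  have hout : ∀ x, Order.coheight x = 1 → x ∉ U → mu x = K := fun x hx hxU =>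
    mult_of_notMem hx (fun i hi => hxU (hO i hi))
  have hm0 : ∀ x, Order.coheight x ≠ 1 → mu x = 0 := fun x hx => mult_of_ne hx
  have hm : ∀ x, 0 ≤ mu x := by
    intro x
    by_cases hx : Order.coheight x = 1
    · by_cases hxU : x ∈ U
      · obtain ⟨i, hi⟩ := hcov x hxU
        rw [hmem i x hi]
        exact ord_rat_nonneg _ hi
      · rw [hout x hx hxU]; exact hK0
    · rw [hm0 x hx]
  -- local equations
  have hloc : ∀ x : X.left, ∃ (V : X.left.Opens) (h : X.left.functionField), x ∈ V ∧ h ≠ 0 ∧ ∀ z ∈ V,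
      Order.coheight z = 1 → Scheme.ord h z = mu z := by
    intro x
    refine K172.LocFact.exists_near hX x (hufd x) mu hm0 ⟨⊤, trivial, ?_⟩
    refine (Groth.Agent.Ega4late.H535.PicPrincipal.finite_coheight_one
      (⨆ i, X.left.basicOpen (b t0 i)) ht0).subset ?_
    rintro z ⟨-, hz⟩
    refine ⟨?_, fun hzU => hz ?_⟩
    · by_contra h1
      exact hz (hm0 z h1)
    · obtain ⟨i, hi⟩ := Opens.mem_iSup.1 hzU
      rw [hmem i z (X.left.basicOpen_le _ hi)]
      exact ord_rat_of_mem _ hi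
  choose Vh h hxV h0 hVh using hloc
  -- the two pull-backs of the functions
  have hfm : ∀ t i, genericPoint X.left ∈ O i →
      fm a.act.left hσ (rat (b t i)) = fm (snd G X).left hp (rat (b t i)) := by
    intro t i hi
    have hW : genericPoint (G ⊗ X).left ∈ a.act.left ⁻¹ᵁ (O i) ⊓ (snd G X).left ⁻¹ᵁ (O i) := by
      refine ⟨?_, ?_⟩
      · change a.act.left (genericPoint (G ⊗ X).left) ∈ O i
        rw [hσ]; exact hi
      · change (snd G X).left (genericPoint (G ⊗ X).left) ∈ O i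
        rw [hp]; exact hi
    have e := congrArg (ff _ hW) (hbinv t i)
    rw [ff_appLE a.act.left hσ (O i) _ inf_le_left hi hW, ff_appLE (snd G X).left hp (O i) _ inf_le_right hi hW] at e
    rw [rat_eq hi]
    exact e
  have hptinv : ∀ (i) (w : (G ⊗ X).left), a.act.left w ∈ O i ↔ (snd G X).left w ∈ O i := by
    intro i w
    have e := hOinv i
    constructor
    · intro h1
      have : w ∈ a.act.left ⁻¹ᵁ (O i) := h1
      rw [e] at this
      exact this
    · intro h1
      have : w ∈ (snd G X).left ⁻¹ᵁ (O i) := h1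
      rw [← e] at this
      exact this
  have hinv : ∀ w : (G ⊗ X).left, Order.coheight w = 1 → mu (a.act.left w) = mu ((snd G X).left w) := by
    intro w hw
    by_cases hwU : (snd G X).left w ∈ U
    · obtain ⟨i, hi⟩ := hcov _ hwU
      have hi' := (hptinv i w).2 hi
      have hη := gen_mem hi
      rw [hmem i _ hi, hmem i _ hi',
        ← K569.OrdSmooth.ord_ff_of_smooth hX hZ a.act.left hσ (rat (b t0 i)) (hne i hη) w hw,
        ← K569.OrdSmooth.ord_ff_of_smooth hX hZ (snd G X).left hp (rat (b t0 i)) (hne i hη) w hw]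
      exact congrArg (fun q => Scheme.ord q w) (hfm t0 i hη)
    · have hwU' : a.act.left w ∉ U := by
        intro h1
        obtain ⟨i, hi⟩ := hcov _ h1
        exact hwU (hO i ((hptinv i w).1 hi))
      have hco : ∀ (f : (G ⊗ X).left ⟶ X.left) [Smooth f], f w ∉ U → Order.coheight (f w) = 1 := by
        intro f _ hf
        have h1 := Groth.Agent.Sga5.H839.DimLim.coheight_apply_le f (Flat.generalizingMap f) w
        rw [hw] at h1
        have h2 : Order.coheight (f w) ≠ 0 := by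
          intro h3
          rw [K569.OrdSmooth.eq_genericPoint_of_coheight _ h3] at hf
          exact hf hUη
        exact le_antisymm h1 (Order.one_le_iff_ne_zero.2 h2)
      rw [hout _ (hco a.act.left hwU') hwU', hout _ (hco (snd G X).left hwU) hwU]
  obtain ⟨B, hB⟩ := InvBun.exists_linBun a hX hZ hσ hp mu hm0 hm h h0
    (fun x => ⟨Vh x, hxV x, hVh x⟩) hinv
  refine ⟨B, fun t ht => ?_⟩
  obtain ⟨x1, hx1⟩ := ht
  obtain ⟨i1, hi1⟩ := Opens.mem_iSup.1 hx1
  have hηb : genericPoint X.left ∈ X.left.basicOpen (b t i1) := gen_mem hi1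
  have hη1 : genericPoint X.left ∈ O i1 := X.left.basicOpen_le _ hηb
  have hnet1 : rat (b t i1) ≠ 0 := by
    rw [rat_eq hη1]
    exact ((X.left.mem_basicOpen _ _ hη1).1 hηb).ne_zero
  have hnet : ∀ i, genericPoint X.left ∈ O i → rat (b t i) ≠ 0 := fun i hi =>
    rat_ne_zero hg (hb t) hη1 hi hnet1
  have hr0 : r t ≠ 0 := div_ne_zero (hnet i0 hηi0) hne0
  have hsum : ∀ i x, x ∈ O i → Scheme.ord (r t) x + mu x = Scheme.ord (rat (b t i)) x := by
    intro i x hx
    rw [hmem i x hx, hr t i (gen_mem hx), Scheme.ord_mul hr0 (hne i (gen_mem hx))]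
  have hrord : ∀ x : X.left, Order.coheight x = 1 → 0 ≤ Scheme.ord (r t) x + mu x := by
    intro x hx
    by_cases hxU : x ∈ U
    · obtain ⟨i, hi⟩ := hcov x hxU
      rw [hsum i x hi]
      exact ord_rat_nonneg _ hi
    · rw [hout x hx hxU]
      exact (hK t x hx hxU).le
  have hrinv : fm a.act.left hσ (r t) = fm (snd G X).left hp (r t) := by
    simp only [r]
    rw [map_div₀, map_div₀, hfm t i0 hηi0, hfm t0 i0 hηi0]
  obtain ⟨F, hF, hnv⟩ := hB (r t) hr0 hrinv hrord
  refine ⟨F, hF, ?_⟩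
  have hopen := K689.LinBunBasic.isOpen_nonvanishing hF.1
  let W : X.left.Opens := ⟨GLinSh.nonvanishing B.π F, hopen⟩
  have hW : ∀ x, x ∈ W ↔ ∀ z : X.left, z ⤳ x → Order.coheight z = 1 → Scheme.ord (r t) z + mu z = 0 := by
    intro x
    change x ∈ GLinSh.nonvanishing B.π F ↔ _
    rw [hnv]
    rfl
  have hle : (⨆ i, X.left.basicOpen (b t i)) ≤ W := by
    intro x hx
    obtain ⟨i, hi⟩ := Opens.mem_iSup.1 hx
    rw [hW]
    intro z hz hz1
    have hzi : z ∈ X.left.basicOpen (b t i) := hz.mem_open (X.left.basicOpen _).2 hi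
    rw [hsum i z (X.left.basicOpen_le _ hzi)]
    exact ord_rat_of_mem _ hzi
  have key := K413.AffCodim.eq_of_isAffineOpen hX (⨆ i, X.left.basicOpen (b t i)) W hle (haff t) ⟨x1, hx1⟩ (by
    intro x hx hx1'
    have h1 := (hW x).1 hx
    by_cases hxU : x ∈ U
    · obtain ⟨i, hi⟩ := hcov x hxU
      refine Opens.mem_iSup.2 ⟨i, ?_⟩
      have hη := gen_mem hi
      rw [mem_basicOpen_iff hX hη (b t i) (by rw [← rat_eq hη]; exact hnet i hη) hi]
      intro z hz hz1
      rw [← rat_eq hη, ← hsum i z (hz.mem_open (O i).2 hi)]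
      exact h1 z hz hz1
    · exfalso
      have h2 := h1 x specializes_rfl hx1'
      rw [hout x hx1' hxU] at h2
      have h3 := hK t x hx1' hxU
      omega)
  exact (congrArg (fun V : X.left.Opens => (V : Set X.left)) key).symm

end K98.FamBun
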