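import Groth.Agent.GIT.K98.LiftGlue

/-!
# The lifted action and its invariant sections
-/

set_option autoImplicit false

universe u

open CategoryTheory CategoryTheory.Limits MonoidalCategory CartesianMonoidalCategory MonObj GrpObj AlgebraicGeometry
  TopologicalSpace Opposite

namespace K98.LiftAct

open K689.SchGlue K689.Coord K689.CoordUP K689.Weight K689.Ratio K689.ActBasic K689.LinBunBasic K689.PullBun
open K98.LiftUniq K98.LiftGlue

variable {S : Scheme.{u}} {G X V : Over S} [GrpObj G] (a : AlgGrp.Action G X) {π : V ⟶ X}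
  (A : GLinSh.LinAtlas π) (T : Γ(V.left, ⊤))

omit [GrpObj G] in
theorem appTop_comp {P Q R : Over S} (f : P ⟶ Q) (g : Q ⟶ R) (T : Γ(R.left, ⊤)) :
    (f ≫ g).left.appTop T = f.left.appTop (g.left.appTop T) := by
  rw [Over.comp_left, Scheme.Hom.comp_appTop, CommRingCat.comp_apply]

/-- the lifted action for which `T` is invariant -/
theorem exists_lift [Flat G.hom] [Flat π.left] (hT : Wt π.left A.chart 1 ⊤ (tt π.left T))
    (hreg : RegCoef π.left A.chart T) (hrel : Rel a A T) :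
    ∃ (Φ : AlgGrp.Action G V) (hΦ : Φ.act ≫ π = (G ◁ π) ≫ a.act),
      GLinSh.IsLinearLift a π Φ A.chart hΦ ∧ GLinSh.IsInvFn Φ T := by
  have hA := atl A
  have : IsAffineHom π.left := A.affine
  have := flat_act a
  have := flat_whisker (G := G) π
  obtain ⟨s, h1, h2, h3⟩ := exists_glued a A T hT hreg hrel
  let act : G ⊗ V ⟶ V := Over.homMk s (by
    have e1 : s ≫ V.hom = (s ≫ π.left) ≫ X.hom := by rw [Category.assoc, Over.w π]
    rw [e1, h1]
    exact Over.w ((G ◁ π) ≫ a.act))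
  have hact : act.left = s := rfl
  have hπ : act ≫ π = (G ◁ π) ≫ a.act := by
    apply Over.OverMorphism.ext
    exact h1
  have hT2 : act.left.appTop T = (snd G V).left.appTop T := h2
  -- uniqueness for morphisms over `S`
  have uniq : ∀ {Z : Over S} (r r' : Z ⟶ V), r ≫ π = r' ≫ π → Flat (r ≫ π).left →
      r.left.appTop T = r'.left.appTop T → r = r' := by
    intro Z r r' e1 e2 e3
    apply Over.OverMorphism.ext
    refine hom_ext hA hT hreg r.left r'.left ?_ ?_ e3
    · rw [← Over.comp_left, ← Over.comp_left, e1]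
    · rw [← Over.comp_left]; exact e2
  let Φ : AlgGrp.Action G V :=
    { act := act
      one_act := by
        refine uniq _ _ ?_ ?_ ?_
        · rw [Category.assoc, hπ, ← Category.assoc, ← whisker_exchange, Category.assoc, a.one_act]
          simp
        · rw [Category.assoc, hπ, ← Category.assoc, ← whisker_exchange, Category.assoc, a.one_act,
            leftUnitor_naturality, Over.comp_left]
          have : IsIso (λ_ V).hom.left := inferInstanceAs (IsIso ((Over.forget S).map (λ_ V).hom))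
          infer_instance
        · rw [appTop_comp, hT2, ← appTop_comp, whiskerRight_snd, leftUnitor_hom]
      mul_act := by
        have e0 : (μ[G] ▷ V) ≫ act ≫ π = (α_ G G V).hom ≫ (G ◁ ((G ◁ π) ≫ a.act)) ≫ a.act := by
          rw [hπ, ← Category.assoc, ← whisker_exchange, Category.assoc, a.mul_act, MonoidalCategory.whiskerLeft_comp]
          simp only [Category.assoc]
          rw [associator_naturality_right_assoc]
        refine uniq _ _ ?_ ?_ ?_
        · rw [Category.assoc, e0, Category.assoc, Category.assoc, hπ, ← MonoidalCategory.whiskerLeft_comp_assoc, hπ]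
        · rw [Category.assoc, e0, Over.comp_left, Over.comp_left]
          have : IsIso (α_ G G V).hom.left := inferInstanceAs (IsIso ((Over.forget S).map (α_ G G V).hom))
          have hbf : Flat ((G ◁ π) ≫ a.act).left := by
            rw [Over.comp_left]
            infer_instance
          have := flat_whisker (G := G) ((G ◁ π) ≫ a.act)
          infer_instance
        · rw [appTop_comp, hT2, ← appTop_comp, whiskerRight_snd, appTop_comp, appTop_comp, hT2,
            ← appTop_comp (G ◁ act), whiskerLeft_snd, appTop_comp (snd G (G ⊗ V)), hT2, ← appTop_comp, ← appTop_comp,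
            Category.assoc, associator_hom_snd_snd] }
  refine ⟨Φ, hπ, ?_, hT2⟩
  intro U U' y y' hy hy'
  obtain ⟨c, hc⟩ := h3 U U' y y' hy hy' (GLinSh.liftOpen_le_act a π Φ hπ)
  exact ⟨c, hc⟩

/-- sections with the same multipliers as `T` are invariant -/
theorem isInvFn_of_rel [Flat G.hom] [Flat π.left] (hT : Wt π.left A.chart 1 ⊤ (tt π.left T))
    (hreg : RegCoef π.left A.chart T) (Φ : AlgGrp.Action G V) (hΦ : Φ.act ≫ π = (G ◁ π) ≫ a.act)
    (hTi : GLinSh.IsInvFn Φ T) (F : Γ(V.left, ⊤)) (hF : Wt π.left A.chart 1 ⊤ (tt π.left F))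
    (hrel : ∀ (U U' : X.left.Opens) (y : Γ(V.left, π.left ⁻¹ᵁ U)) (y' : Γ(V.left, π.left ⁻¹ᵁ U'))
      (t r : Γ(X.left, U)) (t' r' : Γ(X.left, U')), y ∈ A.chart U → y' ∈ A.chart U' →
      rs π.left (le_top : U ≤ ⊤) (tt π.left T) = π.left.app U t * y →
      rs π.left (le_top : U' ≤ ⊤) (tt π.left T) = π.left.app U' t' * y' →
      rs π.left (le_top : U ≤ ⊤) (tt π.left F) = π.left.app U r * y →
      rs π.left (le_top : U' ≤ ⊤) (tt π.left F) = π.left.app U' r' * y' →
      a.act.left.appLE U' (a.act.left ⁻¹ᵁ U' ⊓ (snd G X).left ⁻¹ᵁ U) inf_le_left r' *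
          (snd G X).left.appLE U (a.act.left ⁻¹ᵁ U' ⊓ (snd G X).left ⁻¹ᵁ U) inf_le_right t =
        (snd G X).left.appLE U (a.act.left ⁻¹ᵁ U' ⊓ (snd G X).left ⁻¹ᵁ U) inf_le_right r *
          a.act.left.appLE U' (a.act.left ⁻¹ᵁ U' ⊓ (snd G X).left ⁻¹ᵁ U) inf_le_left t') :
    GLinSh.IsInvFn Φ F := by
  have hA := atl A
  have : IsAffineHom π.left := A.affine
  have := flat_act a
  have := flat_whisker (G := G) π
  have hbf : Flat (bb (π := π) a) := by
    rw [bb, Over.comp_left]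
    infer_instance
  change Φ.act.left.appTop F = (snd G V).left.appTop F
  have hTi' : Φ.act.left.appTop T = (snd G V).left.appTop T := hTi
  apply section_ext
  intro z _
  obtain ⟨U, hU, y, hy⟩ := A.cover (((G ◁ π) ≫ snd G X).left z)
  obtain ⟨U', hU', y', hy'⟩ := A.cover (((G ◁ π) ≫ a.act).left z)
  obtain ⟨t, ht⟩ := hT U le_top y (adm_of_mem hy)
  obtain ⟨t', ht'⟩ := hT U' le_top y' (adm_of_mem hy')
  obtain ⟨r, hr⟩ := hF U le_top y (adm_of_mem hy)
  obtain ⟨r', hr'⟩ := hF U' le_top y' (adm_of_mem hy')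
  rw [pow_one] at ht ht' hr hr'
  have key := hrel U U' y y' t r t' r' hy hy' ht ht' hr hr'
  let O := GLinSh.liftOpen a π U U'
  refine ⟨O, le_top, ⟨hU', hU⟩, ?_⟩
  have hb' : O ≤ (bb (π := π) a) ⁻¹ᵁ U' := fun x hx => hx.1
  have q1 : O ≤ ((G ◁ π).left ≫ a.act.left) ⁻¹ᵁ U' := fun x hx => hx.1
  have q2 : O ≤ ((G ◁ π).left ≫ (snd G X).left) ⁻¹ᵁ U := fun x hx => hx.2
  have q3 : O ≤ ((snd G V).left ≫ π.left) ⁻¹ᵁ U := GLinSh.liftOpen_le_snd a π
  have q4 : O ≤ (Φ.act.left ≫ π.left) ⁻¹ᵁ U' := GLinSh.liftOpen_le_act a π Φ hΦ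
  have m1 : (G ◁ π).left ≫ a.act.left = bb (π := π) a := (Over.comp_left _ _ _ _ _).symm
  have m2 : (G ◁ π).left ≫ (snd G X).left = (snd G V).left ≫ π.left := by
    rw [← Over.comp_left, ← Over.comp_left, whiskerLeft_snd]
  have m3 : Φ.act.left ≫ π.left = bb (π := π) a := by
    rw [bb, ← hΦ, Over.comp_left]
  -- pull back the relation to `G ⊗ V`
  have e1 := congrArg ((G ◁ π).left.appLE _ O (GLinSh.liftOpen_le_base a π)) key
  rw [map_mul, map_mul] at e1
  have k1 : ∀ w : Γ(X.left, U'), (G ◁ π).left.appLE _ O (GLinSh.liftOpen_le_base a π)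
      (a.act.left.appLE U' (a.act.left ⁻¹ᵁ U' ⊓ (snd G X).left ⁻¹ᵁ U) inf_le_left w) =
      (bb (π := π) a).appLE U' O hb' w := fun w => (appLE_appLE (G ◁ π).left a.act.left (inf_le_left :
    a.act.left ⁻¹ᵁ U' ⊓ (snd G X).left ⁻¹ᵁ U ≤ a.act.left ⁻¹ᵁ U') (GLinSh.liftOpen_le_base a π) q1 w).trans
    (appLE_hom_congr m1 q1 hb' w)
  have k2 : ∀ w : Γ(X.left, U), (G ◁ π).left.appLE _ O (GLinSh.liftOpen_le_base a π)
      ((snd G X).left.appLE U (a.act.left ⁻¹ᵁ U' ⊓ (snd G X).left ⁻¹ᵁ U) inf_le_right w) =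
      (snd G V).left.appLE (π.left ⁻¹ᵁ U) O (GLinSh.liftOpen_le_snd a π) (π.left.app U w) := fun w =>
    ((appLE_appLE (G ◁ π).left (snd G X).left (inf_le_right :
    a.act.left ⁻¹ᵁ U' ⊓ (snd G X).left ⁻¹ᵁ U ≤ (snd G X).left ⁻¹ᵁ U) (GLinSh.liftOpen_le_base a π) q2 w).trans
    (appLE_hom_congr m2 q2 q3 w)).trans
    (app_appLE (snd G V).left π.left (GLinSh.liftOpen_le_snd a π (U := U) (U' := U')) q3 w).symm
  have k3 : ∀ w : Γ(X.left, U'), (bb (π := π) a).appLE U' O hb' w =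
      Φ.act.left.appLE (π.left ⁻¹ᵁ U') O (GLinSh.liftOpen_le_act a π Φ hΦ) (π.left.app U' w) := fun w =>
    ((app_appLE Φ.act.left π.left (GLinSh.liftOpen_le_act a π Φ hΦ (U := U) (U' := U')) q4 w).trans
    (appLE_hom_congr m3 q4 hb' w)).symm
  rw [k1, k2, k1, k2] at e1
  -- restrictions of global functions
  have k4 : ∀ H : Γ(V.left, ⊤), rsec (le_top : O ≤ ⊤) ((snd G V).left.appTop H) =
      (snd G V).left.appLE (π.left ⁻¹ᵁ U) O (GLinSh.liftOpen_le_snd a π) (rs π.left le_top (tt π.left H)) := by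
    intro H
    have l1 := appLE_rsec (snd G V).left (π.left.preimage_mono (le_top : U ≤ ⊤))
      (GLinSh.liftOpen_le_snd a π (U := U) (U' := U')) (fun x _ => trivial) (tt π.left H)
    have l2 := appLE_rsec (snd G V).left (le_top : π.left ⁻¹ᵁ ⊤ ≤ ⊤) (fun x _ => trivial :
      O ≤ (snd G V).left ⁻¹ᵁ (π.left ⁻¹ᵁ ⊤)) (fun x _ => trivial) H
    exact (rsec_appTop (snd G V).left O (fun x _ => trivial) H).trans (l1.trans l2).symm
  have k5 : ∀ H : Γ(V.left, ⊤), rsec (le_top : O ≤ ⊤) (Φ.act.left.appTop H) =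
      Φ.act.left.appLE (π.left ⁻¹ᵁ U') O (GLinSh.liftOpen_le_act a π Φ hΦ) (rs π.left le_top (tt π.left H)) := by
    intro H
    have l1 := appLE_rsec Φ.act.left (π.left.preimage_mono (le_top : U' ≤ ⊤))
      (GLinSh.liftOpen_le_act a π Φ hΦ (U := U) (U' := U')) (fun x _ => trivial) (tt π.left H)
    have l2 := appLE_rsec Φ.act.left (le_top : π.left ⁻¹ᵁ ⊤ ≤ ⊤) (fun x _ => trivial :
      O ≤ Φ.act.left ⁻¹ᵁ (π.left ⁻¹ᵁ ⊤)) (fun x _ => trivial) H
    exact (rsec_appTop Φ.act.left O (fun x _ => trivial) H).trans (l1.trans l2).symm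
  have e2 : Φ.act.left.appLE (π.left ⁻¹ᵁ U') O (GLinSh.liftOpen_le_act a π Φ hΦ) (π.left.app U' t' * y') =
      (snd G V).left.appLE (π.left ⁻¹ᵁ U) O (GLinSh.liftOpen_le_snd a π) (π.left.app U t * y) := by
    rw [← ht, ← ht', ← k4, ← k5, hTi']
  rw [map_mul, map_mul] at e2
  have e3 : (bb (π := π) a).appLE U' O hb' t' *
      (rsec (le_top : O ≤ ⊤) (Φ.act.left.appTop F) - rsec (le_top : O ≤ ⊤) ((snd G V).left.appTop F)) = 0 := by
    rw [k4, k5, hr, hr', map_mul, map_mul, k3]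
    rw [k3, k3] at e1
    linear_combination (Φ.act.left.appLE (π.left ⁻¹ᵁ U') O (GLinSh.liftOpen_le_act a π Φ hΦ) (π.left.app U' r')) * e2 +
      ((snd G V).left.appLE (π.left ⁻¹ᵁ U) O (GLinSh.liftOpen_le_snd a π) y) * e1
  exact sub_eq_zero.1 (K405.FlatBun.eq_zero_of_flat (bb (π := π) a) U' t' (hreg U' y' t' hy' ht') O hb' _ e3)

end K98.LiftAct
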