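import Groth.Agent.GIT.K98.OrdPull
import Groth.Agent.GIT.K98.LiftAct

/-!
# The linearised line bundle of an invariant divisor

`mu` is an effective divisor on a smooth `G`-scheme, given by its multiplicities, invariant under the action.  Its line
bundle has a linearisation for which the invariant rational functions with poles bounded by `mu` are invariant sections.
-/

set_option autoImplicit false

universe u

open CategoryTheory CategoryTheory.Limits MonoidalCategory CartesianMonoidalCategory MonObj GrpObj AlgebraicGeometry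
  TopologicalSpace Opposite

namespace K98.InvBun

open K689.SchGlue K689.Coord K689.CoordUP K689.Weight K689.ActBasic K689.LinBunBasic K689.PullBun
open K98.LiftUniq K98.LiftGlue K98.LiftAct K98.OrdPull K98.CocBun
open Groth.Agent.Lefpen.H725.CocDef Groth.Agent.Lefpen.H521.CartierCoc

theorem eq_of_notMem {Z : Scheme.{u}} [IsIntegral Z] {W : Z.Opens} (h : genericPoint Z ∉ W) (s t : Γ(Z, W)) :
    s = t := by
  have h1 : W = ⊥ := by
    rw [eq_bot_iff]
    intro z hz
    exact (h (gen_mem hz)).elim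
  subst h1
  exact Subsingleton.elim _ _

/-- equality of sections of an integral scheme -/
theorem section_eq {Z : Scheme.{u}} [IsIntegral Z] {W : Z.Opens} (s t : Γ(Z, W))
    (h : ∀ hη : genericPoint Z ∈ W, ff W hη s = ff W hη t) : s = t := by
  by_cases hη : genericPoint Z ∈ W
  · exact ff_injective W hη (h hη)
  · exact eq_of_notMem hη s t

variable {S : Scheme.{u}} {G X : Over S} [GrpObj G] (a : AlgGrp.Action G X)

omit [GrpObj G] in
theorem smooth_snd [Smooth G.hom] (X : Over S) : Smooth (snd G X).left := by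
  change Smooth (pullback.snd G.hom X.hom)
  infer_instance

theorem smooth_act [Smooth G.hom] : Smooth a.act.left := by
  rw [← shear_snd a, Over.comp_left]
  have := smooth_snd (G := G) X
  have : IsIso (shear a).left := inferInstanceAs (IsIso ((Over.forget S).map (shear a)))
  infer_instance

variable [IsIntegral X.left] [IsIntegral (G ⊗ X).left] [IsLocallyNoetherian X.left]
  [IsLocallyNoetherian (G ⊗ X).left] [Smooth G.hom]

theorem exists_linBun (hX : ∀ x : X.left, IsIntegrallyClosed (X.left.presheaf.stalk x))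
    (hZ : ∀ z : (G ⊗ X).left, IsIntegrallyClosed ((G ⊗ X).left.presheaf.stalk z))
    (hσ : a.act.left (genericPoint (G ⊗ X).left) = genericPoint X.left)
    (hp : (snd G X).left (genericPoint (G ⊗ X).left) = genericPoint X.left)
    (mu : X.left → ℤ) (hm0 : ∀ x, Order.coheight x ≠ 1 → mu x = 0) (hm : ∀ x, 0 ≤ mu x)
    (h : X.left → X.left.functionField) (h0 : ∀ x, h x ≠ 0)
    (hloc : ∀ x, ∃ V : X.left.Opens, x ∈ V ∧ ∀ z ∈ V, Order.coheight z = 1 → Scheme.ord (h x) z = mu z)
    (hinv : ∀ w : (G ⊗ X).left, Order.coheight w = 1 → mu (a.act.left w) = mu ((snd G X).left w)) :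
    ∃ B : GLinSh.LinBun G a, ∀ r : X.left.functionField, r ≠ 0 →
      fm a.act.left hσ r = fm (snd G X).left hp r →
      (∀ x : X.left, Order.coheight x = 1 → 0 ≤ Scheme.ord r x + mu x) →
      ∃ F : Γ(B.V.left, ⊤), B.IsInvSection 1 F ∧
        GLinSh.nonvanishing B.π F =
          {x | ∀ z : X.left, z ⤳ x → Order.coheight z = 1 → Scheme.ord r z + mu z = 0} := by
  have := smooth_snd (G := G) X
  have := smooth_act a
  let c : X.left → X.left.functionField := fun x => (h x)⁻¹
  have hc0 : ∀ x, c x ≠ 0 := fun x => inv_ne_zero (h0 x)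
  have hdiv : ∀ r x, r / c x = r * h x := fun r x => by
    change r / (h x)⁻¹ = r * h x
    rw [div_inv_eq_mul]
  obtain ⟨V, q, chart, hq, A, Fn, hFn, hα⟩ := exists_bun c hc0 (by
    intro x
    obtain ⟨V, hxV, hV⟩ := unitAt_loc hX mu h h0 hloc x
    refine ⟨V, hxV, fun y hy => ?_⟩
    have := hV y hy
    have e : c x / c y = h y / h x := by
      rw [hdiv, div_eq_inv_mul]
    rwa [e])
  have hord : ∀ (r : X.left.functionField), r ≠ 0 → ∀ x z : X.left, z ⤳ x → Order.coheight z = 1 →
      Scheme.ord (r / c x) z = Scheme.ord r z + mu z := by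
    intro r hr x z hz hz1
    obtain ⟨V, hxV, hV⟩ := hloc x
    rw [hdiv, Scheme.ord_mul hr (h0 x), hV z (hz.mem_open V.2 hxV) hz1]
  have hreg' : ∀ (r : X.left.functionField), r ≠ 0 →
      (∀ x : X.left, Order.coheight x = 1 → 0 ≤ Scheme.ord r x + mu x) → ∀ x, RegAt x (r / c x) := by
    intro r hr h1 x
    refine regAt_of_ord hX (fun _ z hz hz1 => ?_)
    rw [hord r hr x z hz hz1]
    exact h1 z hz1
  have hone : ∀ x, RegAt x (1 / c x) := hreg' 1 one_ne_zero (fun x _ => by
    rw [K654.OrdAff.ord_one, zero_add]; exact hm x)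
  let VO : Over S := Over.mk (q ≫ X.hom)
  let π : VO ⟶ X := Over.homMk q rfl
  let A' : GLinSh.LinAtlas π := ⟨hq, chart, A.cover, A.coord, A.linear⟩
  let T : Γ(VO.left, ⊤) := Fn 1 hone
  have hT : Wt π.left A'.chart 1 ⊤ (tt π.left T) := hFn 1 hone
  have hflq : Flat q := K405.FlatBun.flat_of_atl A
  have hflπ : Flat π.left := hflq
  -- coefficients
  have hcoef : ∀ (U : X.left.Opens) (hη : genericPoint X.left ∈ U) (y : Γ(VO.left, π.left ⁻¹ᵁ U)), y ∈ A'.chart U →
      ∃ α : X.left.functionField, α ≠ 0 ∧ (∀ x ∈ U, UnitAt x (α / c x)) ∧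
        ∀ r hr (t : Γ(X.left, U)), rs π.left (le_top : U ≤ ⊤) (tt π.left (Fn r hr)) = π.left.app U t * y →
          ff U hη t * α = r := hα
  have hregc : RegCoef π.left A'.chart T := by
    intro U y t hy ht x hx
    obtain ⟨α, hα0, -, h2⟩ := hcoef U (gen_mem hx) y hy
    have h3 := h2 1 hone t ht
    apply mem_nonZeroDivisors_of_ne_zero
    intro h4
    have e : ff U (gen_mem hx) t = algebraMap (X.left.presheaf.stalk x) X.left.functionField
        (X.left.presheaf.germ U x hx t) :=
      (congrArg (fun φ => φ.hom t) (TopCat.Presheaf.germ_stalkSpecializes X.left.presheaf hx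
        (genericPoint_specializes x))).symm
    rw [e, h4, map_zero, zero_mul] at h3
    exact zero_ne_one h3
  -- membership of the generic points
  have hgσ : ∀ {U : X.left.Opens}, genericPoint (G ⊗ X).left ∈ a.act.left ⁻¹ᵁ U → genericPoint X.left ∈ U := by
    intro U h1
    have h2 : a.act.left (genericPoint (G ⊗ X).left) ∈ U := h1
    rwa [hσ] at h2
  have hgp : ∀ {U : X.left.Opens}, genericPoint (G ⊗ X).left ∈ (snd G X).left ⁻¹ᵁ U → genericPoint X.left ∈ U := by
    intro U h1
    have h2 : (snd G X).left (genericPoint (G ⊗ X).left) ∈ U := h1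
    rwa [hp] at h2
  have hrel : LiftGlue.Rel a A' T := by
    intro U U' y y' t t' hy hy' ht ht'
    by_cases hW : genericPoint (G ⊗ X).left ∈ a.act.left ⁻¹ᵁ U' ⊓ (snd G X).left ⁻¹ᵁ U
    swap
    · exact ⟨0, eq_of_notMem hW _ _⟩
    obtain ⟨α, hα0, hαu, hα1⟩ := hcoef U (hgp hW.2) y hy
    obtain ⟨α', hα0', hαu', hα1'⟩ := hcoef U' (hgσ hW.1) y' hy'
    have e1 := hα1 1 hone t ht
    have e2 := hα1' 1 hone t' ht'
    obtain ⟨w, -, hw⟩ := exists_of_unitAt hW (u := fm a.act.left hσ α' / fm (snd G X).left hp α) (by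
      intro z hz
      have k1 : UnitAt z (fm a.act.left hσ (α' / c (a.act.left z))) := unitAt_map a.act.left hσ (hαu' _ hz.1)
      have k2 : UnitAt z (fm (snd G X).left hp (α / c ((snd G X).left z))) :=
        unitAt_map (snd G X).left hp (hαu _ hz.2)
      have k3 := unitAt_pull hX hZ a.act.left (snd G X).left hσ hp mu hm0 h h0 hloc hinv z
      have k4 := unitAt_div (unitAt_div k1 k2) k3
      have e3 : fm a.act.left hσ (α' / c (a.act.left z)) / fm (snd G X).left hp (α / c ((snd G X).left z)) /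
          (fm a.act.left hσ (h (a.act.left z)) / fm (snd G X).left hp (h ((snd G X).left z))) =
          fm a.act.left hσ α' / fm (snd G X).left hp α := by
        rw [hdiv, hdiv, map_mul, map_mul]
        have n1 : fm a.act.left hσ (h (a.act.left z)) ≠ 0 := (map_ne_zero _).2 (h0 _)
        have n2 : fm (snd G X).left hp (h ((snd G X).left z)) ≠ 0 := (map_ne_zero _).2 (h0 _)
        have n3 : fm (snd G X).left hp α ≠ 0 := (map_ne_zero _).2 hα0
        field_simp
      rwa [e3] at k4)
    refine ⟨w, ?_⟩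
    apply ff_injective _ hW
    rw [map_mul, hw, ff_appLE a.act.left hσ U' _ inf_le_left (hgσ hW.1) hW t',
      ff_appLE (snd G X).left hp U _ inf_le_right (hgp hW.2) hW t]
    have e4 : fm a.act.left hσ (ff U' (hgσ hW.1) t') * fm a.act.left hσ α' = 1 := by
      rw [← map_mul, e2, map_one]
    have e5 : fm (snd G X).left hp (ff U (hgp hW.2) t) * fm (snd G X).left hp α = 1 := by
      rw [← map_mul, e1, map_one]
    have n3 : fm (snd G X).left hp α ≠ 0 := (map_ne_zero _).2 hα0
    rw [← mul_div_assoc, e4, div_eq_iff n3, e5]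
  obtain ⟨Φ, hΦ, hlin, hTi⟩ := LiftAct.exists_lift a A' T hT hregc hrel
  refine ⟨⟨VO, π, A', Φ, hΦ, hlin⟩, ?_⟩
  intro r hr0 hrinv hrord
  have hrr := hreg' r hr0 hrord
  have hF : Wt π.left A'.chart 1 ⊤ (tt π.left (Fn r hrr)) := hFn r hrr
  refine ⟨Fn r hrr, ⟨(hasWeight_iff A' 1 (Fn r hrr)).2 hF, ?_⟩, ?_⟩
  · refine isInvFn_of_rel a A' T hT hregc Φ hΦ hTi (Fn r hrr) hF ?_
    intro U U' y y' t s t' s' hy hy' ht ht' hs hs'
    apply section_eq
    intro hW
    obtain ⟨α, hα0, hαu, hα1⟩ := hcoef U (hgp hW.2) y hy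
    obtain ⟨α', hα0', hαu', hα1'⟩ := hcoef U' (hgσ hW.1) y' hy'
    have e1 := hα1 1 hone t ht
    have e2 := hα1' 1 hone t' ht'
    have e3 := hα1 r hrr s hs
    have e4 := hα1' r hrr s' hs'
    have n1 : fm a.act.left hσ α' ≠ 0 := (map_ne_zero _).2 hα0'
    have n2 : fm (snd G X).left hp α ≠ 0 := (map_ne_zero _).2 hα0
    rw [map_mul, map_mul, ff_appLE a.act.left hσ U' _ inf_le_left (hgσ hW.1) hW,
      ff_appLE (snd G X).left hp U _ inf_le_right (hgp hW.2) hW, ff_appLE a.act.left hσ U' _ inf_le_left (hgσ hW.1) hW,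
      ff_appLE (snd G X).left hp U _ inf_le_right (hgp hW.2) hW]
    have e1' := congrArg (fm (snd G X).left hp) e1
    have e2' := congrArg (fm a.act.left hσ) e2
    have e3' := congrArg (fm (snd G X).left hp) e3
    have e4' := congrArg (fm a.act.left hσ) e4
    rw [map_mul, map_one] at e1' e2'
    rw [map_mul] at e3' e4'
    apply mul_right_cancel₀ n1
    apply mul_right_cancel₀ n2
    calc _ = (fm a.act.left hσ (ff U' (hgσ hW.1) s') * fm a.act.left hσ α') *
          (fm (snd G X).left hp (ff U (hgp hW.2) t) * fm (snd G X).left hp α) := by ring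
      _ = (fm (snd G X).left hp (ff U (hgp hW.2) s) * fm (snd G X).left hp α) *
          (fm a.act.left hσ (ff U' (hgσ hW.1) t') * fm a.act.left hσ α') := by
          rw [e4', e1', e3', e2', hrinv]
      _ = _ := by ring
  · have e0 := nonvanishing_eq (π := π) (Fn r hrr)
    refine e0.trans ?_
    ext x
    obtain ⟨U, hxU, y, hy⟩ := A.cover x
    obtain ⟨s, hs⟩ := hF U le_top y (adm_of_mem hy)
    have h1 : nv π.left (tt π.left (Fn r hrr)) ∩ U = X.left.basicOpen s := by
      rw [← nv_rs (le_top : U ≤ ⊤), hs]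
      have : IsAffineHom π.left := hq
      exact nv_adm (atl A') (adm_of_mem hy) s
    have h2 : x ∈ nv π.left (tt π.left (Fn r hrr)) ↔ x ∈ X.left.basicOpen s := by
      constructor
      · intro h3
        have : x ∈ nv π.left (tt π.left (Fn r hrr)) ∩ U := ⟨h3, hxU⟩
        rw [h1] at this
        exact this
      · intro h3
        have : x ∈ (X.left.basicOpen s : Set X.left) := h3
        rw [← h1] at this
        exact this.1
    rw [h2]
    rw [pow_one] at hs
    obtain ⟨α, hα0, hαu, hα1⟩ := hcoef U (gen_mem hxU) y hy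
    have e1 := hα1 r hrr s hs
    have e2 : ff U (gen_mem hxU) s = r / α := by rw [← e1]; field_simp
    have hs0 : ff U (gen_mem hxU) s ≠ 0 := by rw [e2]; exact div_ne_zero hr0 hα0
    rw [mem_basicOpen_iff hX (gen_mem hxU) s hs0 hxU, Set.mem_ofPred_eq]
    refine forall_congr' fun z => forall_congr' fun hz => forall_congr' fun hz1 => ?_
    have hzU : z ∈ U := hz.mem_open U.2 hxU
    have e3 : r / α = r / c z / (α / c z) := by
      have := hc0 z
      field_simp
    rw [e2, e3, K654.OrdAff.ord_div (div_ne_zero hr0 (hc0 z)) (div_ne_zero hα0 (hc0 z)), hord r hr0 z z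
      specializes_rfl hz1, K172.CocOrd.ord_of_unitAt (hαu z hzU), sub_zero]

end K98.InvBun
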