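import Groth.Agent.GIT.K98.LiftUniq

/-!
# Lifting an action to the total space of a line bundle by prescribing an invariant rational section

`T` is a weight-one function on the total space with regular coefficients.  If the coefficients `t` of `T` satisfy
`σ^* t' ⋅ c = p₂^* t` for functions `c` on the opens `σ⁻¹U' ∩ p₂⁻¹U`, then there is exactly one linear lift of the
action for which `T` is invariant.
-/

set_option autoImplicit false

universe u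

open CategoryTheory CategoryTheory.Limits MonoidalCategory CartesianMonoidalCategory MonObj GrpObj AlgebraicGeometry
  TopologicalSpace Opposite

namespace K98.LiftGlue

open K689.SchGlue K689.Coord K689.CoordUP K689.Weight K689.Ratio K689.ActBasic K689.LinBunBasic K689.PullBun
open K98.LiftUniq

theorem topIso_inv_appLE {P Z : Scheme.{u}} (f : P ⟶ Z) (O : P.Opens) (U : Z.Opens) (h : ⊤ ≤ (O.ι ≫ f) ⁻¹ᵁ U)
    (h' : O ≤ f ⁻¹ᵁ U) (t : Γ(Z, U)) : (O.ι ≫ f).appLE U ⊤ h t = O.topIso.inv (f.appLE U O h' t) := by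
  have h1 : ⊤ ≤ O.ι ⁻¹ᵁ O := fun x _ => x.2
  rw [← appLE_appLE O.ι f h' h1 h t]
  exact congrArg (fun φ => φ.hom (f.appLE U O h' t)) (ι_appLE_top O h1)

theorem topIso_inv_rsec {P : Scheme.{u}} (O : P.Opens) (f : Γ(P, ⊤)) :
    O.topIso.inv (rsec le_top f) = O.ι.appTop f := by
  rw [← topIso_ι_appTop, ← CommRingCat.comp_apply, Iso.hom_inv_id]
  rfl

theorem topIso_inv_injective {P : Scheme.{u}} (O : P.Opens) : Function.Injective O.topIso.inv :=
  (ConcreteCategory.bijective_of_isIso O.topIso.inv).1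

theorem rsec_appTop {P Z : Scheme.{u}} (f : P ⟶ Z) (O : P.Opens) (h : O ≤ f ⁻¹ᵁ ⊤) (T : Γ(Z, ⊤)) :
    rsec (le_top : O ≤ ⊤) (f.appTop T) = f.appLE ⊤ O h T := by
  have h0 : (⊤ : P.Opens) ≤ f ⁻¹ᵁ ⊤ := fun x _ => trivial
  have h1 : f.appLE ⊤ ⊤ h0 T = f.appTop T := congrArg (fun φ => φ.hom T) (Scheme.Hom.appLE_eq_app f)
  rw [← h1]
  exact rsec_appLE f le_top h0 h T

variable {S : Scheme.{u}} {G X V : Over S} [GrpObj G] (a : AlgGrp.Action G X) {π : V ⟶ X}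
  (A : GLinSh.LinAtlas π) (T : Γ(V.left, ⊤))

/-- the relation between the coefficients of `T` at `x` and `g x` -/
def Rel : Prop :=
  ∀ (U U' : X.left.Opens) (y : Γ(V.left, π.left ⁻¹ᵁ U)) (y' : Γ(V.left, π.left ⁻¹ᵁ U')) (t : Γ(X.left, U))
    (t' : Γ(X.left, U')), y ∈ A.chart U → y' ∈ A.chart U' →
    rs π.left (le_top : U ≤ ⊤) (tt π.left T) = π.left.app U t * y →
    rs π.left (le_top : U' ≤ ⊤) (tt π.left T) = π.left.app U' t' * y' →
    ∃ c : Γ((G ⊗ X).left, a.act.left ⁻¹ᵁ U' ⊓ (snd G X).left ⁻¹ᵁ U),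
      a.act.left.appLE U' (a.act.left ⁻¹ᵁ U' ⊓ (snd G X).left ⁻¹ᵁ U) inf_le_left t' * c =
        (snd G X).left.appLE U (a.act.left ⁻¹ᵁ U' ⊓ (snd G X).left ⁻¹ᵁ U) inf_le_right t

/-- the base morphism `(g, v) ↦ g ⋅ π v` -/
noncomputable abbrev bb : (G ⊗ V).left ⟶ X.left := ((G ◁ π) ≫ a.act).left

/-- the local multiplier pulled back to `G ⊗ V`, times the coordinate of the source -/
noncomputable abbrev rhs {U U' : X.left.Opens} (y : Γ(V.left, π.left ⁻¹ᵁ U))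
    (c : Γ((G ⊗ X).left, a.act.left ⁻¹ᵁ U' ⊓ (snd G X).left ⁻¹ᵁ U)) : Γ((G ⊗ V).left, GLinSh.liftOpen a π U U') :=
  (G ◁ π).left.appLE _ (GLinSh.liftOpen a π U U') (GLinSh.liftOpen_le_base a π) c *
    (snd G V).left.appLE (π.left ⁻¹ᵁ U) (GLinSh.liftOpen a π U U') (GLinSh.liftOpen_le_snd a π) y

theorem exists_local [IsAffineHom π.left] (hT : Wt π.left A.chart 1 ⊤ (tt π.left T)) (hrel : Rel a A T)
    (U U' : X.left.Opens)
    (y : Γ(V.left, π.left ⁻¹ᵁ U)) (y' : Γ(V.left, π.left ⁻¹ᵁ U')) (hy : y ∈ A.chart U) (hy' : y' ∈ A.chart U') :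
    ∃ (c : Γ((G ⊗ X).left, a.act.left ⁻¹ᵁ U' ⊓ (snd G X).left ⁻¹ᵁ U))
      (s : (GLinSh.liftOpen a π U U' : Scheme.{u}) ⟶ V.left) (hs : ⊤ ≤ s ⁻¹ᵁ (π.left ⁻¹ᵁ U')),
      s ≫ π.left = (GLinSh.liftOpen a π U U').ι ≫ bb (π := π) a ∧
      ev s hs y' = (GLinSh.liftOpen a π U U').topIso.inv (rhs a y c) ∧
      s.appTop T = (GLinSh.liftOpen a π U U').ι.appTop ((snd G V).left.appTop T) := by
  obtain ⟨t, ht⟩ := hT U le_top y (adm_of_mem hy)
  obtain ⟨t', ht'⟩ := hT U' le_top y' (adm_of_mem hy')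
  rw [pow_one] at ht ht'
  obtain ⟨c, hc⟩ := hrel U U' y y' t t' hy hy' ht ht'
  set O := GLinSh.liftOpen a π U U' with hO
  have hb : ⊤ ≤ (O.ι ≫ bb (π := π) a) ⁻¹ᵁ U' := fun x _ => x.2.1
  have hb' : O ≤ (bb (π := π) a) ⁻¹ᵁ U' := fun x hx => hx.1
  obtain ⟨s, hs, h1, h2⟩ := ((atl A).coord U' y' hy').exists_lift (O.ι ≫ bb (π := π) a) hb
    (O.topIso.inv (rhs a y c))
  refine ⟨c, s, hs, h1, h2, ?_⟩
  have hs0 : ⊤ ≤ s ⁻¹ᵁ (π.left ⁻¹ᵁ ⊤) := fun x _ => trivial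
  rw [← ev_tt (p := π.left) s hs0 T, ← ev_rs s hs le_top (tt π.left T), ht', ev_mul, h2,
    ev_app s hs (O.ι ≫ bb (π := π) a) h1 hb t', topIso_inv_appLE (bb (π := π) a) O U' hb hb', ← map_mul,
    ← topIso_inv_rsec]
  congr 1
  -- the identity on `G ⊗ V`
  have e1 := congrArg ((G ◁ π).left.appLE _ O (GLinSh.liftOpen_le_base a π)) hc
  rw [map_mul] at e1
  have q1 : O ≤ ((G ◁ π).left ≫ a.act.left) ⁻¹ᵁ U' := fun x hx => hx.1
  have q2 : O ≤ ((G ◁ π).left ≫ (snd G X).left) ⁻¹ᵁ U := fun x hx => hx.2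
  have q3 : O ≤ ((snd G V).left ≫ π.left) ⁻¹ᵁ U := GLinSh.liftOpen_le_snd a π
  have m1 : (G ◁ π).left ≫ a.act.left = bb (π := π) a := (Over.comp_left _ _ _ _ _).symm
  have m2 : (G ◁ π).left ≫ (snd G X).left = (snd G V).left ≫ π.left := by
    rw [← Over.comp_left, ← Over.comp_left, whiskerLeft_snd]
  have k1 := (appLE_appLE (G ◁ π).left a.act.left (inf_le_left :
    a.act.left ⁻¹ᵁ U' ⊓ (snd G X).left ⁻¹ᵁ U ≤ a.act.left ⁻¹ᵁ U') (GLinSh.liftOpen_le_base a π) q1 t').trans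
    (appLE_hom_congr m1 q1 hb' t')
  have k2 := (appLE_appLE (G ◁ π).left (snd G X).left (inf_le_right :
    a.act.left ⁻¹ᵁ U' ⊓ (snd G X).left ⁻¹ᵁ U ≤ (snd G X).left ⁻¹ᵁ U) (GLinSh.liftOpen_le_base a π) q2 t).trans
    (appLE_hom_congr m2 q2 q3 t)
  have k3 := app_appLE (snd G V).left π.left (GLinSh.liftOpen_le_snd a π (U := U) (U' := U')) q3 t
  rw [k1, k2, ← k3] at e1
  have e2 : (bb (π := π) a).appLE U' O hb' t' * rhs a y c =
      (snd G V).left.appLE (π.left ⁻¹ᵁ U) O (GLinSh.liftOpen_le_snd a π) (π.left.app U t * y) := by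
    rw [map_mul, ← e1]
    simp only [rhs]
    ring
  rw [e2, ← ht]
  have k4 := appLE_rsec (snd G V).left (π.left.preimage_mono (le_top : U ≤ ⊤))
    (GLinSh.liftOpen_le_snd a π (U := U) (U' := U')) (fun x _ => trivial) (tt π.left T)
  have k5 := appLE_rsec (snd G V).left (le_top : π.left ⁻¹ᵁ ⊤ ≤ ⊤) (fun x _ => trivial :
    O ≤ (snd G V).left ⁻¹ᵁ (π.left ⁻¹ᵁ ⊤)) (fun x _ => trivial) T
  have k6 := rsec_appTop (snd G V).left O (fun x _ => trivial) T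
  rw [k6]
  exact k4.trans k5

/-- the indices of the local lifts -/
structure Idx where
  U : X.left.Opens
  U' : X.left.Opens
  y : Γ(V.left, π.left ⁻¹ᵁ U)
  y' : Γ(V.left, π.left ⁻¹ᵁ U')
  hy : y ∈ A.chart U
  hy' : y' ∈ A.chart U'

theorem exists_glued [Flat G.hom] [Flat π.left] (hT : Wt π.left A.chart 1 ⊤ (tt π.left T))
    (hreg : RegCoef π.left A.chart T) (hrel : Rel a A T) :
    ∃ s : (G ⊗ V).left ⟶ V.left, s ≫ π.left = bb (π := π) a ∧ s.appTop T = (snd G V).left.appTop T ∧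
      ∀ (U U' : X.left.Opens) (y : Γ(V.left, π.left ⁻¹ᵁ U)) (y' : Γ(V.left, π.left ⁻¹ᵁ U')) (_ : y ∈ A.chart U)
        (_ : y' ∈ A.chart U') (h : GLinSh.liftOpen a π U U' ≤ s ⁻¹ᵁ (π.left ⁻¹ᵁ U')),
        ∃ c, s.appLE (π.left ⁻¹ᵁ U') (GLinSh.liftOpen a π U U') h y' = rhs a y c := by
  have hA := atl A
  have : IsAffineHom π.left := A.affine
  have := flat_act a
  have := flat_whisker (G := G) π
  have hbf : Flat (bb (π := π) a) := by
    rw [bb, Over.comp_left]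
    infer_instance
  choose c s hs h1 h2 h3 using fun i : Idx A => exists_local a A T hT hrel i.U i.U' i.y i.y' i.hy i.hy'
  let O : Idx A → (G ⊗ V).left.Opens := fun i => GLinSh.liftOpen a π i.U i.U'
  have hO : ∀ z : (G ⊗ V).left, ∃ i, z ∈ O i := by
    intro z
    obtain ⟨U, hU, y, hy⟩ := A.cover (((G ◁ π) ≫ snd G X).left z)
    obtain ⟨U', hU', y', hy'⟩ := A.cover (((G ◁ π) ≫ a.act).left z)
    exact ⟨⟨U, U', y, y', hy, hy'⟩, hU', hU⟩
  obtain ⟨σ, hσ⟩ := glue_opens O hO s (by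
    intro i j
    have e0 : (G ⊗ V).left.homOfLE (inf_le_left : O i ⊓ O j ≤ O i) ≫ (O i).ι =
        (G ⊗ V).left.homOfLE (inf_le_right : O i ⊓ O j ≤ O j) ≫ (O j).ι := by
      rw [Scheme.homOfLE_ι, Scheme.homOfLE_ι]
    refine hom_ext hA hT hreg _ _ ?_ ?_ ?_
    · rw [Category.assoc, Category.assoc, h1, h1]
      exact (Category.assoc _ _ _).symm.trans ((congrArg (· ≫ bb (π := π) a) e0).trans (Category.assoc _ _ _))
    · rw [Category.assoc, h1]
      infer_instance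
    · rw [Scheme.Hom.comp_appTop, Scheme.Hom.comp_appTop, CommRingCat.comp_apply, CommRingCat.comp_apply, h3, h3]
      have e1 := congrArg (fun f => Scheme.Hom.appTop f) e0
      simp only [Scheme.Hom.comp_appTop] at e1
      exact congrArg (fun f => f.hom ((snd G V).left.appTop T)) e1)
  have hσ1 : σ ≫ π.left = bb (π := π) a := by
    apply hom_ext_opens O hO
    intro i
    rw [← Category.assoc, hσ, h1]
  refine ⟨σ, hσ1, ?_, ?_⟩
  · apply section_ext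
    intro z _
    obtain ⟨i, hi⟩ := hO z
    refine ⟨O i, le_top, hi, rsec_eq_of_ι_appTop _ _ _ ?_⟩
    rw [← h3 i, ← hσ i, Scheme.Hom.comp_appTop, CommRingCat.comp_apply]
  · intro U U' y y' hy hy' h
    let i : Idx A := ⟨U, U', y, y', hy, hy'⟩
    refine ⟨c i, ?_⟩
    apply topIso_inv_injective (O i)
    have k1 : ⊤ ≤ ((O i).ι ≫ σ) ⁻¹ᵁ (π.left ⁻¹ᵁ U') := fun x _ => h x.2
    rw [← h2 i]
    have k2 := topIso_inv_appLE σ (O i) (π.left ⁻¹ᵁ U') k1 h y'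
    refine k2.symm.trans ?_
    exact appLE_hom_congr (hσ i) k1 (hs i) y'

end K98.LiftGlue
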