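import Groth.Agent.GIT.K689.PullBun
import Groth.Agent.GIT.K405.FlatBun
import Mathlib.AlgebraicGeometry.Morphisms.Flat

/-!
# Morphisms into the total space of a line bundle are determined by a regular section

`T` a weight-one function on the total space `V`.  Two morphisms to `V` over the same flat morphism to the base
with the same pull-back of `T` are equal, if the coefficients of `T` are regular.
-/

set_option autoImplicit false

universe u

open CategoryTheory CategoryTheory.Limits MonoidalCategory CartesianMonoidalCategory MonObj GrpObj AlgebraicGeometry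
  TopologicalSpace Opposite

namespace K98.LiftUniq

open K689.SchGlue K689.Coord K689.CoordUP K689.Weight K689.Ratio K689.ActBasic K689.LinBunBasic K689.PullBun
open K405.FlatBun

section Sch

variable {X V : Scheme.{u}} {p : V ⟶ X} {chart : ∀ U : X.Opens, Set (Γ(V, p ⁻¹ᵁ U))}

/-- the coefficients of the weight-one function `T` are regular -/
def RegCoef (p : V ⟶ X) (chart : ∀ U : X.Opens, Set (Γ(V, p ⁻¹ᵁ U))) (T : Γ(V, ⊤)) : Prop :=
  ∀ (U : X.Opens) (y : Γ(V, p ⁻¹ᵁ U)) (t : Γ(X, U)), y ∈ chart U →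
    rs p (le_top : U ≤ ⊤) (tt p T) = p.app U t * y →
      ∀ x (hx : x ∈ U), X.presheaf.germ U x hx t ∈ nonZeroDivisors (X.presheaf.stalk x)

theorem ev_tt {Z : Scheme.{u}} (s : Z ⟶ V) (h : ⊤ ≤ s ⁻¹ᵁ (p ⁻¹ᵁ ⊤)) (T : Γ(V, ⊤)) :
    ev s h (tt p T) = s.appTop T := by
  simp only [ev, tt]
  rw [← CommRingCat.comp_apply, Scheme.Hom.map_appLE]
  exact congrArg (fun f => f.hom T) (Scheme.Hom.appLE_eq_app s)

/-- the value of a chart coordinate is determined by the value of `T` -/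
theorem hom_ext_aux [IsAffineHom p] (A : Atl p chart) {T : Γ(V, ⊤)} (hT : Wt p chart 1 ⊤ (tt p T))
    (hreg : RegCoef p chart T) {Z : Scheme.{u}} (s s' : Z ⟶ V) (U : X.Opens) (y : Γ(V, p ⁻¹ᵁ U)) (hy : y ∈ chart U)
    (h : ⊤ ≤ s ⁻¹ᵁ (p ⁻¹ᵁ U)) (h' : ⊤ ≤ s' ⁻¹ᵁ (p ⁻¹ᵁ U))
    (hp : s ≫ p = s' ≫ p) (hfl : Flat (s ≫ p)) (hT' : s.appTop T = s'.appTop T) : s = s' := by
  refine (A.coord U y hy).hom_ext s s' h h' hp ?_
  obtain ⟨t, ht⟩ := hT U le_top y (adm_of_mem hy)
  rw [pow_one] at ht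
  have k : ∀ (r : Z ⟶ V) (hr : ⊤ ≤ r ⁻¹ᵁ (p ⁻¹ᵁ U)) (hr' : ⊤ ≤ (s ≫ p) ⁻¹ᵁ U) (hrp : r ≫ p = s ≫ p),
      (s ≫ p).appLE U ⊤ hr' t * ev r hr y = r.appTop T := by
    intro r hr hr' hrp
    rw [← ev_tt (p := p) r (fun x _ => trivial) T, ← ev_app r hr (s ≫ p) hrp hr' t, ← ev_mul, ← ht]
    exact ev_rs r hr le_top (tt p T)
  have hr' : ⊤ ≤ (s ≫ p) ⁻¹ᵁ U := h
  have e1 := k s h hr' rfl
  have e2 := k s' h' hr' hp.symm
  have e3 : (s ≫ p).appLE U ⊤ hr' t * (ev s h y - ev s' h' y) = 0 := by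
    rw [mul_sub, e1, e2, hT', sub_self]
  exact sub_eq_zero.1 (eq_zero_of_flat (s ≫ p) U t (hreg U y t hy ht) ⊤ hr' _ e3)

/-- uniqueness of lifts with prescribed value of `T` over a flat morphism -/
theorem hom_ext [IsAffineHom p] (A : Atl p chart) {T : Γ(V, ⊤)} (hT : Wt p chart 1 ⊤ (tt p T))
    (hreg : RegCoef p chart T) {Z : Scheme.{u}} (s s' : Z ⟶ V)
    (hp : s ≫ p = s' ≫ p) (hfl : Flat (s ≫ p)) (hT' : s.appTop T = s'.appTop T) : s = s' := by
  choose U hxU y hy using A.cover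
  have hpt : ∀ w : Z, (s' ≫ p) w = (s ≫ p) w := fun w => by rw [hp]
  refine hom_ext_opens (fun z : Z => (s ≫ p) ⁻¹ᵁ (U ((s ≫ p) z))) (fun z => ⟨z, hxU _⟩) _ _ ?_
  intro z
  refine hom_ext_aux A hT hreg _ _ (U ((s ≫ p) z)) (y ((s ≫ p) z)) (hy _) (fun x _ => x.2) ?_ ?_ ?_ ?_
  · intro x _
    have h1 : (s ≫ p) x.1 ∈ U ((s ≫ p) z) := x.2
    have h3 : (s' ≫ p) x.1 ∈ U ((s ≫ p) z) := by rw [hpt]; exact h1
    exact h3
  · rw [Category.assoc, Category.assoc, hp]
  · rw [Category.assoc]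
    infer_instance
  · rw [Scheme.Hom.comp_appTop, Scheme.Hom.comp_appTop, CommRingCat.comp_apply, CommRingCat.comp_apply, hT']

end Sch

section Flat

variable {S : Scheme.{u}} {G : Over S}

theorem flat_whisker {A B : Over S} (h : A ⟶ B) [Flat h.left] : Flat (G ◁ h).left :=
  MorphismProperty.of_isPullback (isPullback_snd_left (G := G) h) inferInstance

theorem flat_snd [Flat G.hom] (X : Over S) : Flat (snd G X).left := by
  change Flat (pullback.snd G.hom X.hom)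
  infer_instance

theorem flat_act [GrpObj G] [Flat G.hom] {X : Over S} (a : AlgGrp.Action G X) : Flat a.act.left := by
  rw [← shear_snd a, Over.comp_left]
  have := flat_snd (G := G) X
  have : IsIso (shear a).left := inferInstanceAs (IsIso ((Over.forget S).map (shear a)))
  infer_instance

end Flat

end K98.LiftUniq
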