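import Groth.Agent.Div21.K172.CocOrd
import Groth.Agent.GIT.K569.OrdSmooth
import Groth.Agent.GIT.K98.CocBun

/-!
# Pull-back of Cartier cocycles given by orders along two smooth morphisms
-/

set_option autoImplicit false

universe u

open CategoryTheory CategoryTheory.Limits AlgebraicGeometry TopologicalSpace Opposite

namespace K98.OrdPull

open Groth.Agent.Lefpen.H725.CocDef Groth.Agent.Lefpen.H521.CartierCoc
open Groth.Agent.Ega4late.H535.PicPrincipal Groth.Agent.Fdesc.LocGen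

/-- the map of function fields -/
noncomputable abbrev fm {X Z : Scheme.{u}} [IsIntegral X] [IsIntegral Z] (f : Z ⟶ X)
    (hf : f (genericPoint Z) = genericPoint X) : X.functionField →+* Z.functionField :=
  (K654.OrdMap.ff f hf).hom

section Map

variable {X Z : Scheme.{u}} [IsIntegral X] [IsIntegral Z] (f : Z ⟶ X)
  (hf : f (genericPoint Z) = genericPoint X)

/-- pull-back of sections as rational functions -/
theorem ff_appLE (U : X.Opens) (W : Z.Opens) (h : W ≤ f ⁻¹ᵁ U) (hU : genericPoint X ∈ U)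
    (hW : genericPoint Z ∈ W) (t : Γ(X, U)) : ff W hW (f.appLE U W h t) = fm f hf (ff U hU t) := by
  have h1 : X.presheaf.germ U (genericPoint X) hU ≫ K654.OrdMap.ff f hf =
      f.appLE U W h ≫ Z.presheaf.germ W (genericPoint Z) hW := by
    have hW' : genericPoint Z ∈ f ⁻¹ᵁ U := h hW
    rw [K654.OrdMap.ff, TopCat.Presheaf.germ_stalkSpecializes_assoc]
    have h2 := Scheme.Hom.germ_stalkMap f U (genericPoint Z) hW'
    refine h2.trans ?_
    rw [Scheme.Hom.appLE, Category.assoc]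
    congr 1
    exact (TopCat.Presheaf.germ_res _ _ _ _).symm
  exact (congrArg (fun φ => φ.hom t) h1).symm

theorem unitAt_map {z : Z} {u : X.functionField} (h : UnitAt (f z) u) : UnitAt z (fm f hf u) := by
  obtain ⟨U, hzU, hη, g, hg, rfl⟩ := h
  have hη' : genericPoint Z ∈ f ⁻¹ᵁ U := by
    change f (genericPoint Z) ∈ U
    rw [hf]; exact hη
  exact ⟨f ⁻¹ᵁ U, hzU, hη', f.appLE U (f ⁻¹ᵁ U) le_rfl g, hg.map _, ff_appLE f hf U _ le_rfl hη hη' g⟩

end Map

section Ord

variable {X : Scheme.{u}} [IsIntegral X] [IsLocallyNoetherian X]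

theorem regAt_of_ord (hX : ∀ x : X, IsIntegrallyClosed (X.presheaf.stalk x)) {x : X} {u : X.functionField}
    (h : u ≠ 0 → ∀ z : X, z ⤳ x → Order.coheight z = 1 → 0 ≤ Scheme.ord u z) : RegAt x u := by
  by_cases hu : u = 0
  · refine ⟨⊤, trivial, trivial, 0, ?_⟩
    rw [map_zero, hu]
  obtain ⟨t, ht⟩ := regPt_of_ord_nonneg hX x u hu (h hu)
  obtain ⟨U, hxU, s, rfl⟩ := X.presheaf.exists_germ_eq t
  refine ⟨U, hxU, gen_mem hxU, s, ?_⟩
  rw [← ht]
  exact (congrArg (fun φ => φ.hom s) (TopCat.Presheaf.germ_stalkSpecializes X.presheaf hxU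
    (genericPoint_specializes x))).symm

theorem ord_ff_nonneg {U : X.Opens} (hη : genericPoint X ∈ U) (s : Γ(X, U)) {x : X} (hx : x ∈ U) :
    0 ≤ Scheme.ord (ff U hη s) x := by
  have h := K654.OrdAff.ord_algebraMap_nonneg x (X.presheaf.germ U x hx s)
  have e : algebraMap (X.presheaf.stalk x) X.functionField (X.presheaf.germ U x hx s) = ff U hη s :=
    congrArg (fun φ => φ.hom s) (TopCat.Presheaf.germ_stalkSpecializes X.presheaf hx (genericPoint_specializes x))
  rwa [e] at h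

/-- a section is invertible at `x` iff it has order zero at the generizations of codimension one -/
theorem mem_basicOpen_iff (hX : ∀ x : X, IsIntegrallyClosed (X.presheaf.stalk x)) {U : X.Opens}
    (hη : genericPoint X ∈ U) (s : Γ(X, U)) (hs : ff U hη s ≠ 0) {x : X} (hx : x ∈ U) :
    x ∈ X.basicOpen s ↔ ∀ z : X, z ⤳ x → Order.coheight z = 1 → Scheme.ord (ff U hη s) z = 0 := by
  constructor
  · intro h z hz hz1
    have hzs : z ∈ X.basicOpen s := hz.mem_open (X.basicOpen s).2 h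
    have hu : IsUnit (X.presheaf.germ U z (X.basicOpen_le s hzs) s) :=
      (X.mem_basicOpen s z (X.basicOpen_le s hzs)).1 hzs
    have e : algebraMap (X.presheaf.stalk z) X.functionField (X.presheaf.germ U z (X.basicOpen_le s hzs) s) =
        ff U hη s :=
      congrArg (fun φ => φ.hom s) (TopCat.Presheaf.germ_stalkSpecializes X.presheaf (X.basicOpen_le s hzs)
        (genericPoint_specializes z))
    rw [← e]
    exact K654.OrdAff.ord_algebraMap_unit z _ hu
  · intro h
    obtain ⟨W, hxW, hηW, g, hg, hgs⟩ := K172.CocOrd.unitAt_of_ord hX hs h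
    have h1 : ores (inf_le_left : U ⊓ W ≤ U) s = ores inf_le_right g := by
      apply ff_injective (U ⊓ W) ⟨hη, hηW⟩
      rw [ff_ores, ff_ores, hgs]
    have h2 : IsUnit (ores (inf_le_left : U ⊓ W ≤ U) s) := by
      rw [h1]; exact hg.map _
    rw [X.mem_basicOpen s x hx]
    have h3 := h2.map (X.presheaf.germ (U ⊓ W) x ⟨hx, hxW⟩).hom
    have h4 : (X.presheaf.germ (U ⊓ W) x ⟨hx, hxW⟩).hom (ores (inf_le_left : U ⊓ W ≤ U) s) =
        X.presheaf.germ U x hx s := TopCat.Presheaf.germ_res_apply _ _ _ _ _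
    rwa [h4] at h3

end Ord

/-- local equations of the same divisor give a Cartier cocycle -/
theorem unitAt_loc {X : Scheme.{u}} [IsIntegral X] [IsLocallyNoetherian X]
    (hX : ∀ x : X, IsIntegrallyClosed (X.presheaf.stalk x)) (μ : X → ℤ) (h : X → X.functionField)
    (h0 : ∀ x, h x ≠ 0)
    (hloc : ∀ x, ∃ V : X.Opens, x ∈ V ∧ ∀ z ∈ V, Order.coheight z = 1 → Scheme.ord (h x) z = μ z) (x : X) :
    ∃ V : X.Opens, x ∈ V ∧ ∀ y ∈ V, UnitAt y (h y / h x) := by
  obtain ⟨V, hxV, hV⟩ := hloc x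
  refine ⟨V, hxV, fun y hy => ?_⟩
  obtain ⟨V', hyV', hV'⟩ := hloc y
  refine K172.CocOrd.unitAt_of_ord hX (div_ne_zero (h0 y) (h0 x)) ?_
  intro z hz hz1
  rw [K654.OrdAff.ord_div (h0 y) (h0 x), hV z (hz.mem_open V.2 hy) hz1, hV' z (hz.mem_open V'.2 hyV') hz1, sub_self]

/-- the pull-backs along two smooth morphisms of a divisor with the same orders are equal -/
theorem unitAt_pull {X Z : Scheme.{u}} [IsIntegral X] [IsIntegral Z] [IsLocallyNoetherian X]
    [IsLocallyNoetherian Z] (hX : ∀ x : X, IsIntegrallyClosed (X.presheaf.stalk x))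
    (hZ : ∀ z : Z, IsIntegrallyClosed (Z.presheaf.stalk z)) (σ p : Z ⟶ X) [Smooth σ] [Smooth p]
    (hσ : σ (genericPoint Z) = genericPoint X) (hp : p (genericPoint Z) = genericPoint X)
    (μ : X → ℤ) (hμ : ∀ x, Order.coheight x ≠ 1 → μ x = 0) (h : X → X.functionField) (h0 : ∀ x, h x ≠ 0)
    (hloc : ∀ x, ∃ V : X.Opens, x ∈ V ∧ ∀ z ∈ V, Order.coheight z = 1 → Scheme.ord (h x) z = μ z)
    (hinv : ∀ w : Z, Order.coheight w = 1 → μ (σ w) = μ (p w)) (z : Z) :
    UnitAt z (fm σ hσ (h (σ z)) / fm p hp (h (p z))) := by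
  have key : ∀ (f : Z ⟶ X) [Smooth f] (hf : f (genericPoint Z) = genericPoint X) (w : Z), w ⤳ z →
      Order.coheight w = 1 → Scheme.ord (fm f hf (h (f z))) w = μ (f w) := by
    intro f _ hf w hw hw1
    rw [K569.OrdSmooth.ord_ff_of_smooth hX hZ f hf (h (f z)) (h0 _) w hw1]
    obtain ⟨V, hzV, hV⟩ := hloc (f z)
    by_cases h1 : Order.coheight (f w) = 1
    · exact hV (f w) ((hw.map f.continuous).mem_open V.2 hzV) h1
    · rw [Scheme.ord_eq_zero_of_coheight_neq_one h1, hμ _ h1]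
  have hne : ∀ (f : Z ⟶ X) (hf : f (genericPoint Z) = genericPoint X) (x : X), fm f hf (h x) ≠ 0 := by
    intro f hf x
    exact (map_ne_zero (fm f hf)).2 (h0 x)
  refine K172.CocOrd.unitAt_of_ord hZ (div_ne_zero (hne σ hσ _) (hne p hp _)) ?_
  intro w hw hw1
  rw [K654.OrdAff.ord_div (hne σ hσ _) (hne p hp _), key σ hσ w hw hw1, key p hp w hw hw1, hinv w hw1, sub_self]

end K98.OrdPull
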